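import Groth.Agent.Sga3C.SchemImage
import Groth.Agent.Sga3B.MT.MemOps
import Mathlib.AlgebraicGeometry.Morphisms.SchemeTheoreticallyDominant
import Mathlib.RingTheory.Valuation.ValuationRing

/-!
# Closed subschemes flat over a domain are determined by their generic fibres
-/

set_option autoImplicit false

universe u

open CategoryTheory CategoryTheory.Limits AlgebraicGeometry MonoidalCategory CartesianMonoidalCategory
  MonObj GrpObj

namespace Groth.Agent.K547.GenFib

open Groth.Agent.Sga3B

variable (O : Type u) [CommRing O] [IsDomain O]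

/-- the generic point -/
noncomputable abbrev gen : Spec (CommRingCat.of (FractionRing O)) ⟶ Spec (CommRingCat.of O) :=
  Spec.map (CommRingCat.ofHom (algebraMap O (FractionRing O)))

instance dominant_gen : IsSchemeTheoreticallyDominant (gen O) := by
  have : IsDominant (gen O) := by
    refine isDominant_of_of_appTop_injective ?_
    have h : (gen O).appTop = (Scheme.ΓSpecIso _).hom ≫ CommRingCat.ofHom (algebraMap O (FractionRing O)) ≫
        (Scheme.ΓSpecIso _).inv := by
      rw [Scheme.ΓSpecIso_inv_naturality]
      simp
    rw [h]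
    have h1 := (ConcreteCategory.bijective_of_isIso (Scheme.ΓSpecIso (CommRingCat.of O)).hom).1
    have h2 := (ConcreteCategory.bijective_of_isIso (Scheme.ΓSpecIso (CommRingCat.of (FractionRing O))).inv).1
    intro x y hxy
    exact h1 (IsFractionRing.injective O (FractionRing O) (h2 hxy))
  exact .of_isDominant _

variable {O}

variable {G : Over (Spec (CommRingCat.of O))}

/-- A flat subscheme is contained in a closed one as soon as its generic fibre is. -/
theorem exists_fac {P Q : Over (Spec (CommRingCat.of O))} [Flat P.hom] (p : P ⟶ G) (q : Q ⟶ G)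
    [IsClosedImmersion q.left] (u : Red.bc (gen O) P ⟶ Red.bc (gen O) Q)
    (hu : u ≫ (Over.pullback (gen O)).map q = (Over.pullback (gen O)).map p) :
    ∃ f : P ⟶ Q, f ≫ q = p := by
  have hq : ((Over.pullback (gen O)).map q).left ≫ pullback.fst G.hom (gen O) =
      pullback.fst Q.hom (gen O) ≫ q.left := (Parab.EtHom.isPullback_map _ q).w.symm
  have hp : ((Over.pullback (gen O)).map p).left ≫ pullback.fst G.hom (gen O) =
      pullback.fst P.hom (gen O) ≫ p.left := (Parab.EtHom.isPullback_map _ p).w.symm
  obtain ⟨l, hl⟩ := Sga3C.SchemImage.exists_lift (pullback.fst P.hom (gen O)) p.left q.left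
    (u.left ≫ pullback.fst Q.hom (gen O)) (by
      rw [Category.assoc, ← hq, ← hp, ← hu]
      exact (Category.assoc _ _ _).symm)
  refine ⟨Over.homMk l (by rw [← Over.w q, reassoc_of% hl, Over.w p]), ?_⟩
  ext1
  exact hl

end Groth.Agent.K547.GenFib
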