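import Groth.Agent.Par.K547.HensLift
import Groth.Agent.RedSub.H647.SubPt
import Groth.Agent.RedSub.H648.BorBc

/-!
# Subgroups of `G` from the points of the scheme of parabolic subgroups
-/

set_option autoImplicit false

universe u

open CategoryTheory CategoryTheory.Limits AlgebraicGeometry MonoidalCategory CartesianMonoidalCategory
  MonObj GrpObj

namespace Groth.Agent.K547.Fam

open Groth.Agent.RedSub.H647.SubPt Groth.Agent.Sga3B Groth.Agent.Sga3B.MT Groth.Agent.RedSub.H648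

variable {S S' : Scheme.{u}} {G : Over S}

/-- Points of the base change of a morphism `p : P ⟶ G`. -/
lemma pt_map_iff (f : S' ⟶ S) {P : Over S} (p : P ⟶ G) {X : Scheme.{u}} (y : X ⟶ S') (c : X ⟶ G.left) :
    Pt ((Over.pullback f).map p) y c ↔ ∃ z : X ⟶ P.left, z ≫ P.hom = y ≫ f ∧ z ≫ p.left = c := by
  have h1 : ((Over.pullback f).map p).left ≫ pullback.fst G.hom f = pullback.fst P.hom f ≫ p.left :=
    (Parab.EtHom.isPullback_map f p).w.symm
  constructor
  · rintro ⟨x, rfl, rfl⟩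
    refine ⟨x ≫ pullback.fst P.hom f, ?_, ?_⟩
    · rw [Category.assoc, pullback.condition, Category.assoc]
      rfl
    · rw [Category.assoc, ← h1]
  · rintro ⟨z, h2, rfl⟩
    refine ⟨pullback.lift z y h2, pullback.lift_snd _ _ _, ?_⟩
    rw [h1, ← Category.assoc]
    exact congrArg (· ≫ p.left) (pullback.lift_fst _ _ _)

/-- A subgroup of the base change of `G` along the identity is a subgroup of `G`. -/
lemma exists_down [GrpObj G] {f : S ⟶ S} (hf : f = 𝟙 S) {H : Over S} [GrpObj H] (h : H ⟶ Red.bc f G)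
    (hh : Red.IsParabolic h) :
    ∃ p : H ⟶ G, Red.IsParabolic p ∧ ∀ (X : Scheme.{u}) (y : X ⟶ S) (c : X ⟶ G.left),
      Pt h y c ↔ ∃ z : X ⟶ H.left, z ≫ H.hom = y ∧ z ≫ p.left = c := by
  subst hf
  refine ⟨h ≫ (RedIso.und (BcIso.bcIdIso G)).hom, ?_, ?_⟩
  · exact AlgBc.isParabolic_of_arrow (Iso.refl _) (BcIso.bcIdIso G) (by
      rw [BorBc.und_refl, Category.id_comp]) hh
  · intro X y c
    have e : (h ≫ (RedIso.und (BcIso.bcIdIso G)).hom).left = h.left ≫ pullback.fst G.hom (𝟙 S) := by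
      rw [BcNat.und_bcIdIso, Over.comp_left]
      congr 1
    rw [e]
    rfl

/-- Parabolic subgroups with closedness not built in, when they are closed. -/
lemma isParabolic_of_sub [GrpObj G] {P : Over S} [GrpObj P] {p : P ⟶ G} (h : RedSub.IsParabolicSub p)
    (hc : IsClosedImmersion p.left) : Red.IsParabolic p := by
  obtain ⟨⟨h1, -⟩, h3, h4⟩ := h
  refine ⟨h1, hc, h3, fun s => ⟨inferInstance, MorphismProperty.overPullbackMap (P := @IsClosedImmersion) _ p hc,
    ?_, h4 s⟩⟩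
  change Smooth (Limits.pullback.snd P.hom _)
  infer_instance

lemma isParabolicSub_of_isParabolic [GrpObj G] {P : Over S} [GrpObj P] {p : P ⟶ G} (h : Red.IsParabolic p) :
    RedSub.IsParabolicSub p := by
  obtain ⟨h1, h2, h3, h4⟩ := h
  exact ⟨⟨h1, inferInstance⟩, h3, fun s => (h4 s).2.2.2⟩

/-- The subgroup of `G` given by a section of the scheme of parabolic subgroups. -/
theorem exists_sub [GrpObj G] (hG : Red.IsReductive G) {M : Over S} {H : Over M.left} [GrpObj H]
    (h : H ⟶ Red.bc M.hom G) (hh : RedSub.IsParabolicSub h) (hcl : IsClosedImmersion h.left)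
    (g : S ⟶ M.left) (hg : g ≫ M.hom = 𝟙 S) :
    ∃ (P : Over S) (_ : GrpObj P) (p : P ⟶ G), Red.IsParabolic p ∧
      ∀ (X : Scheme.{u}) (y : X ⟶ S) (c : X ⟶ G.left),
        Pt h (y ≫ g) c ↔ ∃ z : X ⟶ P.left, z ≫ P.hom = y ∧ z ≫ p.left = c := by
  have h1 : Red.IsParabolic ((Over.pullback g).map h) :=
    BorBc.isParabolic_bc g (RedBcAny636.isReductive_bc M.hom hG) (isParabolic_of_sub hh hcl)
  have h2 : Red.IsParabolic (bcSub g h) :=
    AlgBc.isParabolic_of_arrow (Iso.refl _) (BcIso.bcCompIso g M.hom G).symm (by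
      rw [BorBc.und_refl, Category.id_comp, bcSub]
      congr 1) h1
  obtain ⟨p, hp, hp'⟩ := exists_down hg (bcSub g h) h2
  refine ⟨Red.bc g H, inferInstance, p, hp, fun X y c => ?_⟩
  rw [← pt_bcSub, hp']

/-- Comparison with a subgroup of a base change. -/
lemma exists_iso_of_samePoints [GrpObj G] {M : Over S} {H : Over M.left}
    {h : H ⟶ Red.bc M.hom G} {g : S ⟶ M.left} {P : Over S} [GrpObj P] {p : P ⟶ G} (hp : Red.IsParabolic p)
    (hpt : ∀ (X : Scheme.{u}) (y : X ⟶ S) (c : X ⟶ G.left),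
        Pt h (y ≫ g) c ↔ ∃ z : X ⟶ P.left, z ≫ P.hom = y ∧ z ≫ p.left = c)
    (f : S' ⟶ S) {P₀ : Over S'} [GrpObj P₀] {p₀ : P₀ ⟶ Red.bc f G} (hp₀ : Red.IsParabolic p₀)
    (hs : RedSub.SamePoints G f p₀ M h (f ≫ g)) :
    ∃ e : Red.bc f P ≅ P₀, e.hom ≫ p₀ = (Over.pullback f).map p := by
  have hc := hp.2.1
  have hc₀ := hp₀.2.1
  have : IsClosedImmersion ((Over.pullback f).map p).left :=
    MorphismProperty.overPullbackMap (P := @IsClosedImmersion) _ p hc
  have : Mono ((Over.pullback f).map p) := Groth.Agent.Sga3C.ClosedSub.mono_of_left _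
  have : Mono p₀ := Groth.Agent.Sga3C.ClosedSub.mono_of_left _
  refine exists_iso_of_pt _ _ fun X y c => ?_
  rw [pt_map_iff, ← hpt, Category.assoc]
  exact ((samePoints_iff p₀ M h (f ≫ g)).1 hs X y c).symm

end Groth.Agent.K547.Fam
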