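import Groth.Agent.Par.K547.CoLift
import Groth.Agent.RedSub.H663.DynPair
import Groth.Agent.Sga3B.Parab.OppS172
import Groth.Agent.Sga3B.BorSpan613

/-!
# The subgroups `P_G(λ)`, `U_G(λ)`, `Z_G(λ)` of a reductive group; lifting cocharacters
-/

set_option autoImplicit false

universe u

open CategoryTheory CategoryTheory.Limits AlgebraicGeometry MonoidalCategory CartesianMonoidalCategory
  MonObj GrpObj

namespace Groth.Agent.K547.DynTools

open Groth.Agent.Sga3B Groth.Agent.Sga3B.Parab Groth.Agent.Sga3B.Par HensLift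
open Groth.Agent.RedSub.H663

section Gen

variable {S : Scheme.{u}} {G : Over S} [GrpObj G] (lam : Red.Gm S ⟶ G) [IsMonHom lam]

/-- `P_G(λ)` is parabolic with unipotent radical `U_G(λ)` and Levi subgroup `Z_G(λ)`. -/
theorem exists_all (hG : Red.IsReductive G) {P : Over S} [GrpObj P] {p : P ⟶ G} (hp : IsDynP lam p) :
    ∃ (U Z : Over S) (_ : GrpObj U) (_ : GrpObj Z) (u : U ⟶ P) (z : Z ⟶ P),
      IsDynU lam (u ≫ p) ∧ IsDynZ lam (z ≫ p) ∧ Red.IsParabolic p ∧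
      Par.IsUnipotentRadical u ∧ Par.IsLevi z :=
  LeviOfDyn383.exists_all DynGeom678.dynGeomU Uncond688.dynK1 K3b143.dynK3 hG lam p hp

theorem isParabolic_of_isDynP (hG : Red.IsReductive G) {P : Over S} [GrpObj P] {p : P ⟶ G}
    (hp : IsDynP lam p) : Red.IsParabolic p := by
  obtain ⟨_, _, _, _, _, _, -, -, h, -⟩ := exists_all lam hG hp
  exact h

/-- `P_G(λ)` exists and is parabolic. -/
theorem exists_isDynP (hG : Red.IsReductive G) :
    ∃ (P : Over S) (_ : GrpObj P) (p : P ⟶ G), IsDynP lam p ∧ Red.IsParabolic p := by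
  have := hG.1
  obtain ⟨P, _, p, hp, -⟩ := DynExist998.exists_isDynP lam
  exact ⟨P, inferInstance, p, hp, isParabolic_of_isDynP lam hG hp⟩

/-- `Z_G(λ)` is a Levi subgroup of `P_G(λ)`. -/
theorem isLevi_of_isDynZ (hG : Red.IsReductive G) {P L : Over S} [GrpObj P] [GrpObj L] {p : P ⟶ G}
    (hp : IsDynP lam p) {l : L ⟶ P} (hl : IsDynZ lam (l ≫ p)) : Par.IsLevi l := by
  have := hG.1
  obtain ⟨U, _, u', hu', -⟩ := DynExist998.exists_isDynU lam
  obtain ⟨u, rfl⟩ := DynLevi998.exists_uP hp hu'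
  exact (pcU lam DynGeom678.dynGeomU Uncond688.dynK1 K3b143.dynK3 hG p hp u hu' l hl).2.2

/-- `U_G(λ)` is a unipotent radical of `P_G(λ)`. -/
theorem isUnipotentRadical_of_isDynU (hG : Red.IsReductive G) {P U : Over S} [GrpObj P] [GrpObj U]
    {p : P ⟶ G} (hp : IsDynP lam p) {u : U ⟶ P} (hu : IsDynU lam (u ≫ p)) :
    Par.IsUnipotentRadical u := by
  have := hG.1
  obtain ⟨Z, _, z', hz', -⟩ := DynExist998.exists_isDynZ lam
  obtain ⟨z, rfl⟩ := DynLevi998.exists_zP hp hz'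
  exact (pcU lam DynGeom678.dynGeomU Uncond688.dynK1 K3b143.dynK3 hG p hp u hu z hz').2.1

/-- `Z_G(-λ) = Z_G(λ)` -/
theorem isDynZ_neg (hG : IsAffineHom G.hom) {Z : Over S} [GrpObj Z] {z : Z ⟶ G}
    (hz : IsDynZ lam z) : IsDynZ (negLam lam) z where
  isMonHom := hz.isMonHom
  mono := hz.mono
  iff_ptZ X g := by rw [hz.iff_ptZ, OppPts172.ptZ_negLam]

omit [IsMonHom lam] in
/-- Two subgroups equal to `P_G(λ)` are isomorphic. -/
theorem exists_iso_of_isDynP {P P' : Over S} [GrpObj P] [GrpObj P'] {p : P ⟶ G} {p' : P' ⟶ G}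
    (h : IsDynP lam p) (h' : IsDynP lam p') : ∃ e : P ≅ P', e.hom ≫ p' = p := by
  obtain ⟨e, -, he⟩ := h.exists_iso h'
  exact ⟨e, he⟩

end Gen

section Lift

lemma dsBcIso_inv_hom {S S' : Scheme.{u}} (f : S' ⟶ S) (M : Type) [AddCommGroup M] {X : Over S'}
    (x : Red.DS S' M ⟶ X) : (TorusAlgClosed.dsBcIso f M).inv.hom.hom ≫
      (TorusAlgClosed.dsBcIso f M).hom.hom.hom ≫ x = x := by
  rw [← Category.assoc]
  have e : (TorusAlgClosed.dsBcIso f M).inv.hom.hom ≫ (TorusAlgClosed.dsBcIso f M).hom.hom.hom =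
      𝟙 _ := congrArg (fun k => k.hom.hom) (TorusAlgClosed.dsBcIso f M).inv_hom_id
  rw [e, Category.id_comp]

lemma bcLam_eq_of {S S' : Scheme.{u}} (f : S' ⟶ S) {G : Over S} [GrpObj G] (lam : Red.Gm S ⟶ G)
    (lam₀ : Red.Gm S' ⟶ Red.bc f G)
    (h : (Over.pullback f).map lam = (TorusAlgClosed.dsBcIso f ℤ).hom.hom.hom ≫ lam₀) :
    bcLam lam f = lam₀ := by
  have h2 : bcLam lam f = (TorusAlgClosed.dsBcIso f ℤ).inv.hom.hom ≫ (Over.pullback f).map lam := rfl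
  rw [h2, h]
  exact dsBcIso_inv_hom f ℤ lam₀

variable {O : Type u} [CommRing O] [HenselianLocalRing O]

/-- **Cocharacters lift over a henselian local ring.** -/
theorem exists_cochar_lift {G : Over (Spec (CommRingCat.of O))} [GrpObj G]
    (hG : Smooth G.hom) (hGa : IsAffineHom G.hom)
    (lam₀ : Red.Gm (Spec (CommRingCat.of (IsLocalRing.ResidueField O))) ⟶ Red.bc (cl O) G)
    [IsMonHom lam₀] :
    ∃ lam : Red.Gm (Spec (CommRingCat.of O)) ⟶ G, IsMonHom lam ∧ bcLam lam (cl O) = lam₀ := by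
  have h1 : IsMonHom ((TorusAlgClosed.dsBcIso (cl O) ℤ).hom.hom.hom ≫ lam₀) := inferInstance
  obtain ⟨lam, hlam, h⟩ := CoLift.exists_hom_lift (BorSpan613.isTorus_Gm _) hG hGa
    ((TorusAlgClosed.dsBcIso (cl O) ℤ).hom.hom.hom ≫ lam₀)
  exact ⟨lam, hlam, bcLam_eq_of (cl O) lam lam₀ h⟩

end Lift

end Groth.Agent.K547.DynTools
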