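import Groth.Agent.GIT.K688.Farkas
import Mathlib.LinearAlgebra.FreeModule.PID
import Mathlib.Algebra.Module.Rat
import Mathlib.Algebra.Order.Group.Basic
import Mathlib.LinearAlgebra.Dimension.Finite
import Mathlib.Algebra.EuclideanDomain.Int

/-!
# Linear forms with integral values on a finitely generated totally ordered group

`exists_nu`: for a finitely generated totally ordered group `M` and a finite subset `F`, there is a homomorphism
`ν : M → ℤ` with `0 ≤ m ↔ 0 ≤ ν m` and `ν m = 0 → m = 0` for `m ∈ F`.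
-/

set_option autoImplicit false

namespace Groth.Agent.K547.OrdCone

/-- A homomorphism to `ℚ` from a finitely generated group has, up to a multiple, integral values. -/
lemma exists_int {M : Type*} [AddCommGroup M] [AddGroup.FG M] (x : M →+ ℚ) :
    ∃ (d : ℕ) (ν : M →+ ℤ), 0 < d ∧ ∀ m, (ν m : ℚ) = d * x m := by
  classical
  obtain ⟨s, hs⟩ := AddGroup.fg_def.1 ‹AddGroup.FG M›
  let d : ℕ := ∏ m ∈ s, (x m).den
  have hd : 0 < d := Finset.prod_pos fun m _ => (x m).pos
  let H : AddSubgroup M :=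
    { carrier := {m | ∃ n : ℤ, (n : ℚ) = d * x m}
      add_mem' := by
        rintro a b ⟨n, hn⟩ ⟨n', hn'⟩
        exact ⟨n + n', by push_cast; rw [hn, hn', map_add]; ring⟩
      zero_mem' := ⟨0, by simp⟩
      neg_mem' := by
        rintro a ⟨n, hn⟩
        exact ⟨-n, by push_cast; rw [hn, map_neg]; ring⟩ }
  have hH : ∀ m, m ∈ H := by
    intro m
    have h1 : AddSubgroup.closure (s : Set M) ≤ H := by
      rw [AddSubgroup.closure_le]
      intro a ha
      obtain ⟨e, he⟩ : (x a).den ∣ d := Finset.dvd_prod_of_mem (fun m => (x m).den) ha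
      refine ⟨e * (x a).num, ?_⟩
      have h2 : (x a) * (x a).den = (x a).num := Rat.mul_den_eq_num (x a)
      push_cast
      rw [he]
      push_cast
      rw [← h2]
      ring
    rw [hs] at h1
    exact h1 (AddSubgroup.mem_top m)
  choose ν hν using hH
  refine ⟨d, ⟨⟨ν, ?_⟩, ?_⟩, hd, hν⟩
  · have := hν 0
    rw [map_zero, mul_zero] at this
    exact_mod_cast this
  · intro a b
    have h1 := hν (a + b)
    rw [map_add, mul_add, ← hν a, ← hν b] at h1
    exact_mod_cast h1

/-- Homomorphisms to `ℚ` separate the points of a finitely generated torsion-free group. -/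
lemma exists_ne {M : Type*} [AddCommGroup M] [AddGroup.FG M] [IsAddTorsionFree M] {w : M}
    (hw : w ≠ 0) : ∃ x : M →+ ℚ, x w ≠ 0 := by
  have h1 : Module.Finite ℤ M := Module.Finite.iff_addGroup_fg.2 inferInstance
  have h2 : Module.Free ℤ M := inferInstance
  let b := Module.Free.chooseBasis ℤ M
  have h3 : b.repr w ≠ 0 := fun h => hw (by simpa using h)
  obtain ⟨i, hi⟩ := Finsupp.ne_iff.1 h3
  refine ⟨(Int.castAddHom ℚ).comp ((Finsupp.applyAddHom i).comp b.repr.toLinearMap.toAddMonoidHom), ?_⟩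
  change ((b.repr w i : ℤ) : ℚ) ≠ 0
  exact_mod_cast hi

variable {M : Type*} [AddCommGroup M] [LinearOrder M] [IsOrderedAddMonoid M] [AddGroup.FG M]

/-- A rational functional positive on finitely many positive elements. -/
theorem exists_rat (F : Finset M) (hF : ∀ m ∈ F, 0 < m) : ∃ x : M →+ ℚ, ∀ m ∈ F, 0 < x m := by
  classical
  by_contra hne
  push Not at hne
  let α : M → ((M →+ ℚ) × ℚ) →ₗ[ℚ] ℚ := fun m =>
    { toFun := fun w => w.2 - w.1 m
      map_add' := fun a b => by simp; ring
      map_smul' := fun c a => by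
        have h1 : (c • a.1) m = c * a.1 m := rfl
        simp [h1]; ring }
  have hα : ∀ m w, α m w = w.2 - w.1 m := fun _ _ => rfl
  obtain ⟨u, hu, hγ⟩ := K688.Farkas.farkas F α (LinearMap.snd ℚ (M →+ ℚ) ℚ) (by
    rintro ⟨x, t⟩ h
    obtain ⟨m, hm, hxm⟩ := hne x
    have := h m hm
    rw [hα] at this
    change t ≤ 0
    change t - x m ≤ 0 at this
    linarith)
  have key : ∀ w : (M →+ ℚ) × ℚ, w.2 = ∑ m ∈ F, u m * (w.2 - w.1 m) := by
    intro w
    have := congrArg (fun f => f w) hγ
    simpa [hα] using this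
  have h1 : ∑ m ∈ F, u m = 1 := by
    have := key (0, 1)
    simpa using this.symm
  have h2 : ∀ x : M →+ ℚ, ∑ m ∈ F, u m * x m = 0 := by
    intro x
    have := key (x, 0)
    simp only [zero_sub, mul_neg, Finset.sum_neg_distrib] at this
    linarith
  -- clear denominators
  let d : ℕ := ∏ m ∈ F, (u m).den
  have hd : 0 < d := Finset.prod_pos fun m _ => (u m).pos
  have h3 : ∀ m ∈ F, ∃ n : ℕ, (n : ℚ) = d * u m := by
    intro m hm
    obtain ⟨e, he⟩ : (u m).den ∣ d := Finset.dvd_prod_of_mem (fun m => (u m).den) hm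
    have h4 : 0 ≤ (u m).num := Rat.num_nonneg.2 (hu m)
    refine ⟨e * (u m).num.toNat, ?_⟩
    have h5 : (u m) * (u m).den = (u m).num := Rat.mul_den_eq_num (u m)
    have h6 : (((u m).num.toNat : ℕ) : ℚ) = ((u m).num : ℚ) := by
      exact_mod_cast Int.toNat_of_nonneg h4
    push_cast
    rw [h6, ← h5, he]
    push_cast
    ring
  choose! n hn using h3
  have h4 : ∑ m ∈ F, n m • m = 0 := by
    by_contra hw
    obtain ⟨x, hx⟩ := exists_ne hw
    apply hx
    rw [map_sum]
    have : ∑ m ∈ F, x (n m • m) = d * ∑ m ∈ F, u m * x m := by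
      rw [Finset.mul_sum]
      refine Finset.sum_congr rfl fun m hm => ?_
      rw [map_nsmul, nsmul_eq_mul, hn m hm]
      ring
    rw [this, h2, mul_zero]
  have h5 : ∀ m ∈ F, n m • m = 0 :=
    (Finset.sum_eq_zero_iff_of_nonneg fun m hm => nsmul_nonneg (hF m hm).le _).1 h4
  have h6 : ∀ m ∈ F, u m = 0 := by
    intro m hm
    have h7 : n m = 0 := by
      by_contra h
      exact (nsmul_pos (hF m hm) h).ne' (h5 m hm)
    have h8 := hn m hm
    rw [h7, Nat.cast_zero] at h8
    rcases mul_eq_zero.1 h8.symm with h9 | h9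
    · exact absurd h9 (by exact_mod_cast hd.ne')
    · exact h9
  rw [Finset.sum_congr rfl h6, Finset.sum_const_zero] at h1
  exact zero_ne_one h1

/-- **Integral linear forms on a finitely generated totally ordered group.** -/
theorem exists_nu (F : Finset M) :
    ∃ ν : M →+ ℤ, (∀ m ∈ F, 0 ≤ m ↔ 0 ≤ ν m) ∧ ∀ m ∈ F, ν m = 0 → m = 0 := by
  classical
  obtain ⟨x, hx⟩ := exists_rat ((F.filter (0 < ·)) ∪ ((F.filter (· < 0)).image fun m => -m)) (by
    intro m hm
    rw [Finset.mem_union, Finset.mem_filter, Finset.mem_image] at hm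
    rcases hm with hm | ⟨a, ha, rfl⟩
    · exact hm.2
    · exact neg_pos.2 (Finset.mem_filter.1 ha).2)
  obtain ⟨d, ν, hd, hν⟩ := exists_int x
  have hd' : (0 : ℚ) < d := by exact_mod_cast hd
  have hpos : ∀ m ∈ F, 0 < m → 0 < ν m := by
    intro m hm h
    have h1 : 0 < x m := hx m (Finset.mem_union_left _ (Finset.mem_filter.2 ⟨hm, h⟩))
    have h2 := mul_pos hd' h1
    rw [← hν m] at h2
    exact_mod_cast h2
  have hneg : ∀ m ∈ F, m < 0 → ν m < 0 := by
    intro m hm h
    have h1 : 0 < x (-m) := hx (-m) (Finset.mem_union_right _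
      (Finset.mem_image.2 ⟨m, Finset.mem_filter.2 ⟨hm, h⟩, rfl⟩))
    have h2 := mul_pos hd' h1
    rw [← hν (-m), map_neg] at h2
    have h3 : 0 < -ν m := by exact_mod_cast h2
    linarith
  refine ⟨ν, fun m hm => ⟨fun h => ?_, fun h => ?_⟩, fun m hm h => ?_⟩
  · rcases h.eq_or_lt with rfl | h'
    · rw [map_zero]
    · exact (hpos m hm h').le
  · by_contra h'
    exact absurd (hneg m hm (not_le.1 h')) (not_lt.2 h)
  · rcases lt_trichotomy m 0 with h' | h' | h'
    · exact absurd h (hneg m hm h').ne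
    · exact h'
    · exact absurd h (hpos m hm h').ne'

end Groth.Agent.K547.OrdCone
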