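import Groth.Agent.Par.K547.WtLie
import Groth.Agent.Par.K547.OrdCone
import Groth.Agent.Par.K547.DynTools
import Groth.Agent.SGA3x.K21.DSFact
import Groth.Agent.Sga3.H800.FieldImg

/-!
# The parabolic subgroup attached to a homomorphism `D(Γ) ⟶ G`, `Γ` totally ordered
-/

set_option autoImplicit false
set_option linter.unusedSectionVars false
universe u

open CategoryTheory MonoidalCategory CartesianMonoidalCategory MonObj GrpObj AlgebraicGeometry Limits

namespace Groth.Agent.K547.OrdPar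

open Groth.Agent.Sga3B Cell PinMod DSPts GaPts K929.LieDict K929.LieSplit K929.Act K929.Act.TAct K929.ChartUni
  K929.ActSub
open Groth.Agent.Sga3B.Parab Groth.Agent.Sga3B.Parab.OrbM156 RootCoact
open Groth.Agent.K547.QtTact Groth.Agent.K547.WtLie

/-- The non-negative elements of an ordered group. -/
def nn (M : Type) [AddCommGroup M] [LinearOrder M] [IsOrderedAddMonoid M] : AddSubmonoid M where
  carrier := {m | 0 ≤ m}
  add_mem' ha hb := add_nonneg ha hb
  zero_mem' := le_rfl

section affine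

variable {R : Type u} [CommRing R] {G : Over (Spec (CommRingCat.of R))} [GrpObj G]
  {M : Type} [AddCommGroup M] (J : Red.DS (Spec (CommRingCat.of R)) M ⟶ G) [IsMonHom J]

/-- over an affine base, the conditions `PtT T`, `PtT ⊥` are the dynamic conditions for a one-parameter subgroup -/
theorem exists_nu_affine [IsAffineHom G.hom] [LocallyOfFiniteType G.hom] {T : AddSubmonoid M}
    (hT : ∀ F : Finset M, ∃ ν : M →+ ℤ, (∀ m ∈ F, m ∈ T ↔ 0 ≤ ν m) ∧ ∀ m ∈ F, ν m = 0 → m = 0) :
    ∃ ν : M →+ ℤ, ∀ (X : Over (Spec (CommRingCat.of R))) (g : X ⟶ G),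
      (PtT J (AddSubmonoid.toSubmonoid T) g ↔ PtP (lamN J ν) g) ∧ (PtT J ⊥ g ↔ PtZ (lamN J ν) g) := by
  let r : Spec (CommRingCat.of R) ⟶ Spec (CommRingCat.of R) := 𝟙 _
  obtain ⟨A, _, _, e, _⟩ := Rep998.exists_chart (G := G) r
  have hft : Algebra.FiniteType R A := by
    have h1 : LocallyOfFiniteType (Spec.map (CommRingCat.ofHom (algebraMap R A))) := by
      have h2 : LocallyOfFiniteType (Red.bc r G).hom := by
        change LocallyOfFiniteType (pullback.snd G.hom r)
        infer_instance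
      have h3 : e.inv.left ≫ (Red.bc r G).hom = Spec.map (CommRingCat.ofHom (algebraMap R A)) := Over.w e.inv
      rw [← h3]
      have h4 : IsIso e.inv.left := inferInstanceAs (IsIso ((Over.forget _).map e.inv))
      have h5 : LocallyOfFiniteType e.inv.left := inferInstance
      exact MorphismProperty.comp_mem _ _ _ h5 h2
    have h2 := (HasRingHomProperty.Spec_iff (P := @LocallyOfFiniteType)).1 h1
    exact RingHom.finiteType_algebraMap.1 h2
  obtain ⟨ν, hν⟩ := exists_nu_chart (J := J) hT e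
  refine ⟨ν, fun X g => ?_⟩
  have key : ∀ (C : Type u) [CommRing C] (c : Spec (CommRingCat.of C) ⟶ Spec (CommRingCat.of R))
      (x : aff C c ⟶ X),
      (QT J C c (AddSubmonoid.toSubmonoid T) (x ≫ g) ↔ LimEx (lamN J ν) (x ≫ g)) ∧
      (QT J C c ⊥ (x ≫ g) ↔ OrbConst (lamN J ν) (x ≫ g)) := by
    intro C _ c x
    let ψ : R →+* C := (Spec.preimage c).hom
    let _ : Algebra R C := ψ.toAlgebra
    have hc : Spec.map (CommRingCat.ofHom (algebraMap R C)) ≫ r = c := by
      rw [Category.comp_id]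
      exact Spec.map_preimage c
    exact hν C c hc (x ≫ g)
  constructor
  · constructor
    · intro h C _ c x
      exact (key C c x).1.1 (h C c x)
    · intro h C _ c x
      exact (key C c x).1.2 (h C c x)
  · constructor
    · intro h C _ c x
      exact (key C c x).2.1 (h C c x)
    · intro h C _ c x
      exact (key C c x).2.2 (h C c x)

/-- The coordinate ring of a group of finite type is of finite type. -/
lemma finiteType_chart [LocallyOfFiniteType G.hom] (c : Chart G (𝟙 (Spec (CommRingCat.of R)))) :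
    Algebra.FiniteType R c.A := by
  have h1 : LocallyOfFiniteType (Spec.map (CommRingCat.ofHom (algebraMap R c.A))) :=
    MorphismProperty.of_isPullback c.isPullback inferInstance
  have h2 := (HasRingHomProperty.Spec_iff (P := @LocallyOfFiniteType)).1 h1
  exact RingHom.finiteType_algebraMap.1 h2

end affine

section cent

variable {S : Scheme.{u}} {G : Over S} [GrpObj G] {M : Type} [AddCommGroup M] (N : AddSubgroup M)
  (J : Red.DS S N ⟶ G)

/-- The centralizer of `D(M) ⟶ D(N) ⟶ G`. -/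
lemma commutes_iff_sub {X : Over S} (g : X ⟶ G) :
    (∀ (X' : Over S) (x : X' ⟶ X) (h : X' ⟶ Red.DS S M),
      (x ≫ g) * (h ≫ Red.DSmap S N.subtype ≫ J) = (h ≫ Red.DSmap S N.subtype ≫ J) * (x ≫ g)) ↔
    (∀ (X' : Over S) (x : X' ⟶ X) (h : X' ⟶ Red.DS S N),
      (x ≫ g) * (h ≫ J) = (h ≫ J) * (x ≫ g)) := by
  obtain ⟨-, h1, h2, h3⟩ := K21.DSFact.cover_subtype (S := S) N
  constructor
  · intro H X' x h
    obtain ⟨X'', q, y, hq, hy⟩ := Groth.Agent.Sga3.H800.FieldImg.exists_cover
      (Red.DSmap S N.subtype) h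
    rw [← cancel_epi q, MonObj.comp_mul, MonObj.comp_mul]
    have := H X'' (q ≫ x) y
    rw [← Category.assoc y, hy] at this
    simp only [Category.assoc] at this ⊢
    exact this
  · intro H X' x h
    have := H X' x (h ≫ Red.DSmap S N.subtype)
    rwa [Category.assoc] at this

end cent

section sub

variable {R : Type u} [CommRing R] {G : Over (Spec (CommRingCat.of R))} [GrpObj G]
  (c : Chart G (𝟙 (Spec (CommRingCat.of R)))) {M N : Type} [AddCommGroup M] [AddCommGroup N] (φ : N →+ M)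
  (J : Red.DS (Spec (CommRingCat.of R)) N ⟶ G) [IsMonHom J]
  [IsMonHom (Red.DSmap (Spec (CommRingCat.of R)) φ ≫ J)]
variable {B C : Type u} [CommRing B] [Algebra R B] [CommRing C] [Algebra R C]

lemma tiPt_DSmap (t : TPt M B) : tiPt c (Red.DSmap (Spec (CommRingCat.of R)) φ ≫ J) B t =
    tiPt c J B (t.comp (AddMonoidHom.toMultiplicative φ)) := by
  apply (c.pts B).injective
  rw [pts_tiPt, pts_tiPt, ← Category.assoc, dsEquiv_DSmap]
  rfl

/-- Homogeneous functions for `J` are homogeneous for `D(M) ⟶ D(N) ⟶ G`. -/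
lemma gr_le {n : N} {a : c.A} (ha : a ∈ gr (actG c J).coact n) :
    a ∈ gr (actG c (Red.DSmap (Spec (CommRingCat.of R)) φ ≫ J)).coact (φ n) := by
  apply mem_gr_of_act
  rw [actG_act, tiPt_DSmap, ← actG_act, act_of_mem _ _ _ ha]
  change MonoidAlgebra.single 1 a * MonoidAlgebra.single (Multiplicative.ofAdd (φ n)) 1 = _
  rw [MonoidAlgebra.single_mul_single, _root_.one_mul, _root_.mul_one]

end sub

section sub2

variable {R : Type u} [CommRing R] {G : Over (Spec (CommRingCat.of R))} [GrpObj G]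
  {M N : Type} [AddCommGroup M] [AddCommGroup N] (φ : N →+ M)
  (J : Red.DS (Spec (CommRingCat.of R)) N ⟶ G)
variable {B C : Type u} [CommRing B] [Algebra R B] [CommRing C] [Algebra R C]

/-- Weight spaces for `J` are weight spaces for `D(M) ⟶ D(N) ⟶ G`. -/
lemma weightSpOf_le (n : N) :
    LieWt.weightSpOf J (Red.chi (Spec (CommRingCat.of R)) n) B ≤
      LieWt.weightSpOf (Red.DSmap (Spec (CommRingCat.of R)) φ ≫ J)
        (Red.chi (Spec (CommRingCat.of R)) (φ n)) B := by
  intro x hx C _ _ ψ t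
  have h := hx C ψ (t ≫ Red.DSmap _ φ)
  have h1 : VecGrp.chiVal (Red.chi (Spec (CommRingCat.of R)) (φ n)) t =
      VecGrp.chiVal (Red.chi (Spec (CommRingCat.of R)) n) (t ≫ Red.DSmap _ φ) := by
    unfold VecGrp.chiVal
    rw [Category.assoc, PinTransport.DSmap_chi]
  dsimp only at h ⊢
  rw [h1]
  rw [Category.assoc] at h
  exact h

end sub2

section main

variable {R : Type u} [CommRing R] {G : Over (Spec (CommRingCat.of R))} [GrpObj G]
  {Γ : Type} [AddCommGroup Γ] [LinearOrder Γ] [IsOrderedAddMonoid Γ]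

/-- **The one-parameter subgroup attached to `D(Γ) ⟶ G`.** -/
theorem exists_data [IsAffineHom G.hom] [LocallyOfFiniteType G.hom]
    (f : Red.DS (Spec (CommRingCat.of R)) Γ ⟶ G) [IsMonHom f] :
    ∃ lam : Red.Gm (Spec (CommRingCat.of R)) ⟶ G, IsMonHom lam ∧
      (∀ (X : Over (Spec (CommRingCat.of R))) (g : X ⟶ G),
        (∀ (X' : Over (Spec (CommRingCat.of R))) (x : X' ⟶ X) (h : X' ⟶ Red.DS _ Γ),
          (x ≫ g) * (h ≫ f) = (h ≫ f) * (x ≫ g)) ↔ PtZ lam g) ∧
      ∀ (B : Type u) [CommRing B] [Algebra R B] (x : LieS.LieR G B), PtP lam x.1 ↔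
        x ∈ ⨆ m ∈ {m : Γ | 0 ≤ m}, LieWt.weightSpOf f (Red.chi (Spec (CommRingCat.of R)) m) B := by
  have : IsSeparated G.hom := inferInstance
  obtain ⟨N, hN, J, hJ, rfl⟩ := K21.DSFact.exists_fg f
  have hfg : AddGroup.FG N := (AddGroup.fg_iff_addSubgroup_fg N).2 hN
  obtain ⟨ν, hν⟩ := exists_nu_affine J (T := nn N) OrdCone.exists_nu
  refine ⟨lamN J ν, inferInstance, fun X g => ?_, fun B _ _ x => ?_⟩
  · rw [commutes_iff_sub, commutes_iff_ptT]
    exact (hν X g).2
  · obtain ⟨c⟩ := exists_chart G (𝟙 (Spec (CommRingCat.of R)))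
    have hft := finiteType_chart c
    rw [← (hν _ _).1]
    rw [← mem_ptSub]
    refine SetLike.ext_iff.1 (le_antisymm ?_ ?_) x
    · rw [ptSub_eq c]
      refine iSup₂_le fun m hm => ?_
      refine le_iSup₂_of_le (f := fun (m : Γ) (_ : m ∈ {m : Γ | 0 ≤ m}) =>
        LieWt.weightSpOf (Red.DSmap _ N.subtype ≫ J) (Red.chi (Spec (CommRingCat.of R)) m) B)
        (N.subtype m) ?_ (weightSpOf_le N.subtype J m)
      exact hm
    · refine iSup₂_le fun m hm x hx => ?_
      rw [mem_ptSub, ptT_iff c]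
      intro n hn a ha
      rw [WtLie.mem_weightSpOf_iff c] at hx
      have hA : (actG c (Red.DSmap _ N.subtype ≫ J)).IsAut := isAut_actG c _
      refine (hA.isWt_iff (infR_mem c x) m).1 hx (N.subtype n) ?_ a (gr_le c N.subtype J ha)
      rintro rfl
      exact hn hm

/-- Elements of the Lie algebra of a subgroup. -/
lemma mem_map_iff {P : Over (Spec (CommRingCat.of R))} [GrpObj P] (p : P ⟶ G) [IsMonHom p] [Mono p]
    {B : Type u} [CommRing B] [Algebra R B] (x : LieS.LieR G B) :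
    x ∈ Subgroup.map (LieS.map B (Spec.map (CommRingCat.ofHom (algebraMap R B))) p) ⊤ ↔
      ∃ y : LieS.dpt B (Spec.map (CommRingCat.ofHom (algebraMap R B))) ⟶ P, y ≫ p = x.1 := by
  constructor
  · rintro ⟨y, -, rfl⟩
    exact ⟨y.1, rfl⟩
  · rintro ⟨y, hy⟩
    refine ⟨⟨y, ?_⟩, trivial, Subtype.ext hy⟩
    rw [LieS.mem_Lie_iff, ← cancel_mono p, Category.assoc, hy, MonObj.one_comp]
    exact x.2

/-- **Existence.** -/
theorem exists_main (hG : Red.IsReductive G) (f : Red.DS (Spec (CommRingCat.of R)) Γ ⟶ G) [IsMonHom f]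
    (Z : Over (Spec (CommRingCat.of R))) [GrpObj Z] (z : Z ⟶ G) [IsMonHom z] (hZ : Red.IsCentralizerOf f z) :
    ∃ (P : Over (Spec (CommRingCat.of R))) (_ : GrpObj P) (p : P ⟶ G) (_ : IsMonHom p) (zP : Z ⟶ P),
      Red.IsParabolic p ∧ zP ≫ p = z ∧ Par.IsLevi zP ∧
      ∀ (B : Type u) [CommRing B] [Algebra R B],
        Subgroup.map (LieS.map B (Spec.map (CommRingCat.ofHom (algebraMap R B))) p) ⊤ =
          ⨆ c ∈ {c : Γ | 0 ≤ c}, LieWt.weightSpOf f (Red.chi (Spec (CommRingCat.of R)) c) B := by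
  have hGa := hG.1
  have hGs := hG.2.1
  obtain ⟨lam, hlam, h1, h2⟩ := exists_data f
  obtain ⟨P, _, p, hp, hpar⟩ := DynTools.exists_isDynP lam hG
  have hpm := hp.isMonHom
  have hpmono := hp.mono
  have hz : IsDynZ lam z := ⟨inferInstance, hZ.2.1, fun X g => (hZ.2.2 X g).trans (h1 X g)⟩
  obtain ⟨zP, hzP⟩ := DynLevi998.exists_zP hp hz
  refine ⟨P, inferInstance, p, hpm, zP, hpar, hzP,
    DynTools.isLevi_of_isDynZ lam hG hp (by rw [hzP]; exact hz), fun B _ _ => ?_⟩
  ext x
  rw [mem_map_iff, hp.iff_ptP, h2]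

end main

end Groth.Agent.K547.OrdPar
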