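import Groth.Agent.Sga3B.Parab.Func
import Groth.Agent.RedSub.H664.BcSec
import Groth.Agent.RedSub.H664.LeviSub
import Groth.Agent.Par.K547.DynTools

/-!
# Base change of cocharacters and sections; lifting sections over a henselian local ring
-/

set_option autoImplicit false
set_option linter.unusedSectionVars false

universe u

open CategoryTheory CategoryTheory.Limits AlgebraicGeometry MonoidalCategory CartesianMonoidalCategory
  MonObj GrpObj

namespace Groth.Agent.K547.Bc

open Groth.Agent.Sga3B Groth.Agent.Sga3B.Parab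
open Groth.Agent.RedSub.H664 Groth.Agent.RedSub.H664.Comb Groth.Agent.RedSub.H664.BcSec
open Groth.Agent.RedSub.H664.Calc3 Groth.Agent.RedSub.H664.Min
open HensLift

section Any

variable {S S' : Scheme.{u}} (f : S' ⟶ S) {G P L : Over S} [GrpObj G] [GrpObj P] [GrpObj L]

lemma bcLam_sm (a : ℤ) (α : Red.Gm S ⟶ G) : bcLam (sm a α) f = sm a (bcLam α f) :=
  bcLam_DSmap f (mlt a) α

lemma bcLam_mul (α β : Red.Gm S ⟶ G) : bcLam (α * β) f = bcLam α f * bcLam β f := by
  rw [bcLam, BcSec.map_mul, MonObj.comp_mul]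
  rfl

lemma bcLam_cmb (a b : ℤ) (α β : Red.Gm S ⟶ G) :
    bcLam (cmb a b α β) f = cmb a b (bcLam α f) (bcLam β f) := by
  rw [cmb_eq, cmb_eq, bcLam_mul, bcLam_sm, bcLam_sm]

lemma bcLam_ad (w : 𝟙_ (Over S) ⟶ G) (α : Red.Gm S ⟶ G) :
    bcLam (Ad.ad w α) f = Ad.ad (bcSec f w) (bcLam α f) := by
  rw [bcLam, BcSec.map_ad, Ad.comp_ad]
  rfl

lemma bcSec_comp (w : 𝟙_ (Over S) ⟶ P) (p : P ⟶ G) :
    bcSec f (w ≫ p) = bcSec f w ≫ (Over.pullback f).map p := by
  rw [bcSec, bcSec, Functor.map_comp, Category.assoc]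

/-- Points with values in the base change are determined by their first component. -/
lemma hom_ext_fst {X : Over S'} {x y : X ⟶ Red.bc f P}
    (h : x.left ≫ pullback.fst P.hom f = y.left ≫ pullback.fst P.hom f) : x = y := by
  apply Over.OverMorphism.ext
  apply pullback.hom_ext h
  have h1 : x.left ≫ (Red.bc f P).hom = X.hom := Over.w x
  have h2 : y.left ≫ (Red.bc f P).hom = X.hom := Over.w y
  exact h1.trans h2.symm

lemma bcSec_left (w : 𝟙_ (Over S) ⟶ P) :
    (bcSec f w).left ≫ pullback.fst P.hom f = f ≫ w.left := by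
  have h1 : ((Over.pullback f).map w).left ≫ pullback.fst P.hom f =
      pullback.fst (𝟙_ (Over S)).hom f ≫ w.left := pullback.lift_fst _ _ _
  have h2 : (bcSec f w).left = (Functor.LaxMonoidal.ε (Over.pullback f)).left ≫
      ((Over.pullback f).map w).left := rfl
  have h3 : (Functor.LaxMonoidal.ε (Over.pullback f)).left ≫ pullback.fst (𝟙_ (Over S)).hom f = f := by
    have h4 : pullback.fst (𝟙_ (Over S)).hom f =
        pullback.snd (𝟙_ (Over S)).hom f ≫ f := by
      rw [← pullback.condition]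
      exact (Category.comp_id _).symm
    have h5 : (Functor.LaxMonoidal.ε (Over.pullback f)).left ≫ pullback.snd (𝟙_ (Over S)).hom f =
        𝟙 S' := Over.w (Functor.LaxMonoidal.ε (Over.pullback f))
    rw [h4, ← Category.assoc, h5]
    exact Category.id_comp f
  rw [h2, Category.assoc, h1, ← Category.assoc, h3]

lemma bcSec_eq (w : 𝟙_ (Over S) ⟶ P) (w₀ : 𝟙_ (Over S') ⟶ Red.bc f P)
    (h : f ≫ w.left = w₀.left ≫ pullback.fst P.hom f) : bcSec f w = w₀ :=
  hom_ext_fst f ((bcSec_left f w).trans h)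

end Any

section Hens

variable {O : Type u} [CommRing O] [HenselianLocalRing O]

/-- **Sections of smooth groups lift over a henselian local ring.** -/
theorem exists_sec_lift {P : Over (Spec (CommRingCat.of O))} [GrpObj P] (hP : Smooth P.hom)
    (w₀ : 𝟙_ (Over (Spec (CommRingCat.of (IsLocalRing.ResidueField O)))) ⟶ Red.bc (cl O) P) :
    ∃ w : 𝟙_ (Over (Spec (CommRingCat.of O))) ⟶ P, bcSec (cl O) w = w₀ := by
  obtain ⟨w, hw, hw'⟩ := exists_lift P.hom (𝟙 _) (w₀.left ≫ pullback.fst P.hom (cl O)) (by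
    have h2 : w₀.left ≫ pullback.snd P.hom (cl O) = 𝟙 _ := Over.w w₀
    rw [Category.assoc, pullback.condition, ← Category.assoc, h2]
    exact (Category.id_comp _).trans (Category.comp_id _).symm)
  exact ⟨Over.homMk w hw, bcSec_eq _ _ _ hw'⟩

end Hens

end Groth.Agent.K547.Bc
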