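import Groth.Agent.Par.K547.HensLift
import Groth.Agent.S2992
import Groth.Agent.Sga3B.IsoFam
import Groth.Agent.Sga3B.MT.MemAt
import Groth.Agent.Sga3B.Pts

/-!
# Lifting homomorphisms from a torus over a henselian local ring
-/

set_option autoImplicit false

universe u

open CategoryTheory CategoryTheory.Limits AlgebraicGeometry MonoidalCategory CartesianMonoidalCategory
  MonObj GrpObj

namespace Groth.Agent.K547.CoLift

open Groth.Agent.Sga3B Groth.Agent.Sga3B.BcPts Groth.Agent.Sga3B.MT Groth.Agent.Sga3B.MT.MemAt HensLift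

section

variable {S S' : Scheme.{u}} {f : S' ⟶ S} {T G : Over S}

lemma overIso_inv_etaHom (X : Over S') :
    (overIso (strHom f X)).inv ≫ (Over.map f).map (etaHom f X) = 𝟙 _ := by
  ext1
  exact Category.comp_id _

lemma ev_symm (φ : Red.bc f T ⟶ Red.bc f G) (X : Over S') (p : X ⟶ Red.bc f T) :
    ev φ ((bcEquiv f X T).symm p) (strHom f X) = (bcEquiv f X G).symm (p ≫ φ) := by
  have h := bcPt_symm (f := f) X p
  rw [bcPt] at h
  rw [ev, h, Category.assoc, comp_bcEquiv_symm, ← Category.assoc, overIso_inv_etaHom,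
    Category.id_comp]

/-- Two morphisms of base changes giving the same family are equal. -/
lemma eq_of_fam_eq {φ ψ : Red.bc f T ⟶ Red.bc f G} (h : fam φ = fam ψ) : φ = ψ := by
  have h1 : ev φ ((bcEquiv f _ T).symm (𝟙 _)) (strHom f _) =
      ev ψ ((bcEquiv f _ T).symm (𝟙 _)) (strHom f _) := by
    rw [← lift_fam, ← lift_fam, h]
  rw [ev_symm, ev_symm, Category.id_comp, Category.id_comp] at h1
  exact (bcEquiv f _ G).symm.injective h1

/-- The family of a base change. -/
lemma ev_map (φ : T ⟶ G) {X : Over S} (x : X ⟶ T) (t : X ⟶ Over.mk f) :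
    ev ((Over.pullback f).map φ) x t = x ≫ φ := by
  rw [ev, ← bcEquiv_comp, Equiv.symm_apply_apply, Category.assoc, Iso.inv_hom_id_assoc]

end

variable {O : Type u} [CommRing O] [HenselianLocalRing O]

/-- **Homomorphisms from a torus to a smooth affine group lift from the closed fibre over a henselian
local ring.** -/
theorem exists_hom_lift {T G : Over (Spec (CommRingCat.of O))} [GrpObj T] [GrpObj G]
    (hT : Red.IsTorus T) (hG : Smooth G.hom) (hGa : IsAffineHom G.hom)
    (φ₀ : Red.bc (cl O) T ⟶ Red.bc (cl O) G) [IsMonHom φ₀] :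
    ∃ φ : T ⟶ G, IsMonHom φ ∧ (Over.pullback (cl O)).map φ = φ₀ := by
  obtain ⟨A, υ, ⟨hυ, hA⟩, hAs, -⟩ := Groth.Agent.S2992.result T G hT hG hGa
  obtain ⟨a₀, ha₀, -⟩ := hA _ _ (IsoFam.isHomFamily_fam φ₀)
  obtain ⟨γ, hγ, hγ'⟩ := exists_lift A.hom (𝟙 _) a₀.left ((Over.w a₀).trans (Category.comp_id _).symm)
  let a : 𝟙_ (Over (Spec (CommRingCat.of O))) ⟶ A := Over.homMk γ hγ
  let φ : T ⟶ G := lift (𝟙 T) (toUnit T ≫ a) ≫ υ
  have hφ : ∀ {X : Over (Spec (CommRingCat.of O))} (x : X ⟶ T), x ≫ φ = lift x (toUnit X ≫ a) ≫ υ := by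
    intro X x
    simp only [φ]
    rw [← Category.assoc, comp_lift, Category.comp_id, ← Category.assoc, toUnit_unique (x ≫ toUnit T) (toUnit X)]
  have hm : IsMonHom φ := Pts.isMonHom_of_points _ fun X x y => by
    rw [hφ, hφ, hφ]
    exact hυ X x y _
  refine ⟨φ, hm, eq_of_fam_eq ?_⟩
  rw [← ha₀, fam, ev_map, hφ]
  have e : toUnit (T ⊗ Over.mk (cl O)) ≫ a = snd T (Over.mk (cl O)) ≫ a₀ := by
    have e1 : toUnit (Over.mk (cl O)) ≫ a = a₀ := by
      ext1
      rw [← hγ']
      rfl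
    rw [← e1, ← Category.assoc]
    congr 1
    exact toUnit_unique _ _
  rw [e]
  congr 1

end Groth.Agent.K547.CoLift
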