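import Groth.Agent.S0536
import Mathlib.AlgebraicGeometry.Morphisms.Smooth
import Mathlib.AlgebraicGeometry.PullbackCarrier
import Mathlib.RingTheory.Henselian

/-!
# Lifting points of smooth schemes over a henselian local ring
-/

set_option autoImplicit false

universe u

open CategoryTheory CategoryTheory.Limits AlgebraicGeometry

namespace Groth.Agent.K547.HensLift

/-- the closed point -/
noncomputable abbrev cl (R : Type u) [CommRing R] [IsLocalRing R] :
    Spec (CommRingCat.of (IsLocalRing.ResidueField R)) ⟶ Spec (CommRingCat.of R) :=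
  Spec.map (CommRingCat.ofHom (IsLocalRing.residue R))

/-- Sections of an affine smooth scheme over a henselian local ring lifting points of the closed fibre. -/
theorem exists_lift_aff {R : Type u} [CommRing R] [HenselianLocalRing R]
    (B : CommRingCat.{u}) (p : Spec B ⟶ Spec (CommRingCat.of R)) [Smooth p]
    (t : Spec (CommRingCat.of (IsLocalRing.ResidueField R)) ⟶ Spec B) (ht : t ≫ p = cl R) :
    ∃ a : Spec (CommRingCat.of R) ⟶ Spec B, a ≫ p = 𝟙 _ ∧ cl R ≫ a = t := by
  obtain ⟨φ, rfl⟩ := Spec.map_surjective p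
  obtain ⟨ψ, rfl⟩ := Spec.map_surjective t
  have hsm : Smooth (Spec.map φ) := inferInstance
  rw [HasRingHomProperty.Spec_iff (P := @Smooth)] at hsm
  let : Algebra R B := φ.hom.toAlgebra
  have : Algebra.Smooth R B := hsm
  have hφψ : φ ≫ ψ = CommRingCat.ofHom (IsLocalRing.residue R) := by
    apply Spec.map_injective
    rw [Spec.map_comp, ht]
  let σ : B →ₐ[R] R ⧸ IsLocalRing.maximalIdeal R :=
    { toFun := ψ.hom
      map_one' := map_one _
      map_mul' := map_mul _
      map_zero' := map_zero _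
      map_add' := map_add _
      commutes' := fun r => ConcreteCategory.congr_hom hφψ r }
  obtain ⟨τ, hτ⟩ := Groth.Agent.S0536.result R B R (IsLocalRing.maximalIdeal R) σ
  refine ⟨Spec.map (CommRingCat.ofHom τ.toRingHom), ?_, ?_⟩
  · rw [← Spec.map_comp, ← Spec.map_id]
    congr 1
    ext r
    exact τ.commutes r
  · rw [← Spec.map_comp]
    congr 1
    ext b
    exact DFunLike.congr_fun hτ b

/-- Sections of a smooth scheme over a henselian local ring lifting points of the closed fibre. -/
theorem exists_section {R : Type u} [CommRing R] [HenselianLocalRing R] {M : Scheme.{u}}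
    (p : M ⟶ Spec (CommRingCat.of R)) [Smooth p]
    (t : Spec (CommRingCat.of (IsLocalRing.ResidueField R)) ⟶ M) (ht : t ≫ p = cl R) :
    ∃ a : Spec (CommRingCat.of R) ⟶ M, a ≫ p = 𝟙 _ ∧ cl R ≫ a = t := by
  let k := IsLocalRing.ResidueField R
  let x : Spec (CommRingCat.of k) := IsLocalRing.closedPoint k
  obtain ⟨V, hV, hxV⟩ : ∃ V : M.Opens, IsAffineOpen V ∧ t x ∈ V := by
    obtain ⟨V, hV, h, -⟩ := exists_isAffineOpen_mem_and_subset (U := ⊤) (x := t x) trivial
    exact ⟨V, hV, h⟩
  have hr : Set.range t ⊆ Set.range V.ι := by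
    rintro _ ⟨y, rfl⟩
    have hy : y = x := Subsingleton.elim (α := PrimeSpectrum k) _ _
    rw [hy, Scheme.Opens.range_ι]
    exact hxV
  let t' : Spec (CommRingCat.of k) ⟶ (V : Scheme.{u}) := IsOpenImmersion.lift V.ι t hr
  have ht' : t' ≫ V.ι = t := IsOpenImmersion.lift_fac _ _ _
  have hVa : IsAffine (V : Scheme.{u}) := hV
  let B : CommRingCat.{u} := Γ((V : Scheme.{u}), ⊤)
  let e : (V : Scheme.{u}) ≅ Spec B := (V : Scheme.{u}).isoSpec
  obtain ⟨a, ha, ha'⟩ := exists_lift_aff B (e.inv ≫ V.ι ≫ p) (t' ≫ e.hom) (by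
    rw [Category.assoc, Iso.hom_inv_id_assoc, ← Category.assoc, ht', ht])
  refine ⟨a ≫ e.inv ≫ V.ι, by simpa using ha, ?_⟩
  rw [← Category.assoc, ha', Category.assoc, Iso.hom_inv_id_assoc, ht']

/-- Hensel's lemma for smooth morphisms: lifting points with values in the residue field. -/
theorem exists_lift {R : Type u} [CommRing R] [HenselianLocalRing R] {M S : Scheme.{u}}
    (f : M ⟶ S) [Smooth f] (γ : Spec (CommRingCat.of R) ⟶ S)
    (v : Spec (CommRingCat.of (IsLocalRing.ResidueField R)) ⟶ M) (h : v ≫ f = cl R ≫ γ) :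
    ∃ γ' : Spec (CommRingCat.of R) ⟶ M, γ' ≫ f = γ ∧ cl R ≫ γ' = v := by
  obtain ⟨a, ha, ha'⟩ := exists_section (pullback.snd f γ) (pullback.lift v (cl R) h)
    (pullback.lift_snd _ _ _)
  refine ⟨a ≫ pullback.fst f γ, ?_, ?_⟩
  · rw [Category.assoc, pullback.condition, ← Category.assoc, ha, Category.id_comp]
  · rw [← Category.assoc, ha', pullback.lift_fst]

end Groth.Agent.K547.HensLift
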