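import Groth.Agent.Par.K547.Bc
import Groth.Agent.Par.K547.Fam
import Groth.Agent.Sga3B.Parab.NearIso
import Groth.Agent.Sga3B.Parab.DynGeom678
import Groth.Agent.RedSub.H606.D5Any
import Groth.Agent.RedSub.H648.BorBc

/-!
# Minimal parabolic subgroups over a henselian local ring
-/

set_option autoImplicit false

universe u

open CategoryTheory CategoryTheory.Limits AlgebraicGeometry MonoidalCategory CartesianMonoidalCategory
  MonObj GrpObj

namespace Groth.Agent.K547.HensMin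

open Groth.Agent.Sga3B Groth.Agent.Sga3B.Parab Groth.Agent.Sga3B.Par
open Groth.Agent.Sga3B.Parab.FibIsoSch
open Groth.Agent.RedSub.H664 Groth.Agent.RedSub.H664.Comb Groth.Agent.RedSub.H664.BcSec
open Groth.Agent.RedSub.H664.Calc3 Groth.Agent.RedSub.H664.Calc2 Groth.Agent.RedSub.H664.Min
open HensLift

/-- `P ⟶ G` is minimal among the parabolic subgroups. -/
def MinPar {S : Scheme.{u}} {G P : Over S} [GrpObj G] [GrpObj P] (p : P ⟶ G) : Prop :=
  ∀ (Q : Over S) [GrpObj Q] (q : Q ⟶ G) (f : Q ⟶ P), Red.IsParabolic q → f ≫ p = q → IsIso f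

section Aff

variable {R : Type u} [CommRing R] {G P : Over (Spec (CommRingCat.of R))} [GrpObj G] [GrpObj P]
  {α : Red.Gm (Spec (CommRingCat.of R)) ⟶ G} [IsMonHom α] {p : P ⟶ G}

omit [IsMonHom α] in
/-- `P_G(α)` is a minimal parabolic subgroup iff the cocharacter `α` is minimal. -/
theorem minPar_iff (hG : Red.IsReductive G) (hp : IsDynP α p) : MinPar p ↔ IsMin α := by
  have := hG.1
  have := hp.mono
  constructor
  · intro h β hβ hle X g hg
    obtain ⟨Q, _, q, hq, hq'⟩ := DynTools.exists_isDynP β hG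
    obtain ⟨f, hf⟩ := (hp.iff_ptP Q q).2 (hle Q q ((hq.iff_ptP Q q).1 ⟨𝟙 _, Category.id_comp _⟩))
    have := h Q q f hq' hf
    obtain ⟨x, rfl⟩ := (hp.iff_ptP X g).2 hg
    refine (hq.iff_ptP _ _).1 ⟨x ≫ inv f, ?_⟩
    rw [← hf, Category.assoc, IsIso.inv_hom_id_assoc]
  · intro h Q _ q f hq hf
    obtain ⟨β, hβ, hq'⟩ := LevFin622.exists_cochar SplitFin885.splitTStmt hG q hq
    have hle : Le β α := by
      intro X g hg
      obtain ⟨x, rfl⟩ := (hq'.iff_ptP X g).2 hg
      exact (hp.iff_ptP _ _).1 ⟨x ≫ f, by rw [Category.assoc, hf]⟩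
    obtain ⟨g, hg⟩ := (hq'.iff_ptP P p).2 (h β hβ hle P p ((hp.iff_ptP P p).1 ⟨𝟙 _, Category.id_comp _⟩))
    have := hq'.mono
    exact ⟨g, by rw [← cancel_mono q, Category.assoc, hg, hf, Category.id_comp],
      by rw [← cancel_mono p, Category.assoc, hf, hg, Category.id_comp]⟩

end Aff

section Bc

variable {S : Scheme.{u}} {S' : Scheme.{u}} (f : S' ⟶ S) {G : Over S} [GrpObj G]

lemma ptP_bc_of {α β : Red.Gm S ⟶ G} (h : ∀ (X : Over S) (g : X ⟶ G), PtP α g → PtP β g)
    (X : Over S') (g : X ⟶ Red.bc f G) (hg : PtP (bcLam α f) g) : PtP (bcLam β f) g :=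
  (DynBc998.ptP_bc_iff f β g).2 (h _ _ ((DynBc998.ptP_bc_iff f α g).1 hg))

end Bc

section LocalIso

variable {S : Scheme.{u}}

lemma isIso_of_isIso_bc_top {Z Y : Over S} (i : Z ⟶ Y) (U : S.Opens) (hU : U = ⊤)
    (h : IsIso ((Over.pullback U.ι).map i)) : IsIso i := by
  subst hU
  have h1 : IsIso (⊤ : S.Opens).ι := inferInstanceAs (IsIso S.topIso.hom)
  have h2 := FibIsoSch.isPullback_map_left (⊤ : S.Opens).ι i
  have h3 : IsIso ((Over.pullback (⊤ : S.Opens).ι).map i).left :=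
    inferInstanceAs (IsIso ((Over.forget _).map ((Over.pullback (⊤ : S.Opens).ι).map i)))
  have h4 : IsIso i.left := by
    have h5 : pullback.fst Z.hom (⊤ : S.Opens).ι ≫ i.left =
        ((Over.pullback (⊤ : S.Opens).ι).map i).left ≫ pullback.fst Y.hom (⊤ : S.Opens).ι := h2.w
    have h6 : i.left = inv (pullback.fst Z.hom (⊤ : S.Opens).ι) ≫
        ((Over.pullback (⊤ : S.Opens).ι).map i).left ≫ pullback.fst Y.hom (⊤ : S.Opens).ι := by
      rw [← h5, IsIso.inv_hom_id_assoc]
    rw [h6]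
    infer_instance
  have : IsIso ((Over.forget S).map i) := h4
  exact isIso_of_reflects_iso i (Over.forget S)

end LocalIso

section LocalRing

variable {O : Type u} [CommRing O] [IsLocalRing O]

/-- A closed immersion into a scheme with integral geometric fibres over a local base, the source
being flat of finite presentation and with a section, is an isomorphism if it is so over the closed
point. -/
theorem isIso_of_closedFibre {Z Y : Over (Spec (CommRingCat.of O))} (i : Z ⟶ Y)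
    [IsClosedImmersion i.left] [Flat Z.hom] [LocallyOfFinitePresentation Z.hom]
    [LocallyOfFiniteType Y.hom] (e : Spec (CommRingCat.of O) ⟶ Z.left) (he : e ≫ Z.hom = 𝟙 _)
    (hY : ∀ s, IsIntegral (Red.geomFibre s Y).left)
    (h : IsIso ((Over.pullback (cl O)).map i)) : IsIso i := by
  obtain ⟨U, hU, hiso⟩ := FibIsoSch.exists_open_isIso i e he hY
    ((cl O) (IsLocalRing.closedPoint _)) (IsLocalRing.ResidueField O) (cl O) rfl h
  have hs : (cl O) (IsLocalRing.closedPoint (IsLocalRing.ResidueField O)) =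
      IsLocalRing.closedPoint O := IsLocalRing.comap_closedPoint (IsLocalRing.residue O)
  refine isIso_of_isIso_bc_top i U ?_ hiso
  rw [hs] at hU
  ext y
  exact ⟨fun _ => trivial, fun _ => (IsLocalRing.specializes_closedPoint y).mem_open U.2 hU⟩

end LocalRing

section OfBc

variable {O : Type u} [CommRing O] [IsLocalRing O]
  {G : Over (Spec (CommRingCat.of O))} [GrpObj G]
  {mu : Red.Gm (Spec (CommRingCat.of O)) ⟶ G} [IsMonHom mu]

/-- A cocharacter is minimal if it is so over the closed fibre. -/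
theorem isMin_of_bc (hG : Red.IsReductive G) (h : IsMin (bcLam mu (cl O))) : IsMin mu := by
  have hGa : IsAffineHom G.hom := hG.1
  have hGs : Smooth G.hom := hG.2.1
  have hG' := RedBcAny636.isReductive_bc (cl O) hG
  intro β hβ hle
  obtain ⟨P, _, p, hp, hpar⟩ := DynTools.exists_isDynP mu hG
  obtain ⟨Q, _, q, hq, hqar⟩ := DynTools.exists_isDynP β hG
  obtain ⟨f, hf⟩ := (hp.iff_ptP Q q).2 (hle Q q hq.ptP)
  have hiso : IsIso ((Over.pullback (cl O)).map f) :=
    (minPar_iff hG' (hp.bc (cl O))).2 h _ _ _ (RedSub.H648.BorBc.isParabolic_bc (cl O) hG hqar)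
      (by rw [← Functor.map_comp, hf])
  have hcl : IsClosedImmersion f.left := by
    have h1 : IsClosedImmersion p.left := hpar.2.1
    have h8 : IsClosedImmersion (f.left ≫ p.left) := by
      rw [← Over.comp_left, hf]
      exact hqar.2.1
    exact .of_comp f.left p.left
  have hQs : Smooth Q.hom := hqar.2.2.1
  have hPs : Smooth P.hom := hpar.2.2.1
  have := isIso_of_closedFibre f η[Q].left (Over.w η[Q])
    (fun s => DynGeom678.isIntegral_geomFibre_isDynP hp s (RedFacts.connected_fibres hG s)) hiso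
  intro X g hg
  obtain ⟨x, rfl⟩ := (hp.iff_ptP X g).2 hg
  exact (hq.iff_ptP _ _).1 ⟨x ≫ inv f, by rw [← hf, Category.assoc, IsIso.inv_hom_id_assoc]⟩

end OfBc

section Step

variable {R R' : Type u} [CommRing R] [CommRing R']
  (f : Spec (CommRingCat.of R') ⟶ Spec (CommRingCat.of R))
  {G : Over (Spec (CommRingCat.of R))} [GrpObj G]

/-- If `mu` is minimal and commutes with `λ` and `P(λ) ≤ P(mu)` after base change, then
`P(λ) = P(mu)` after base change. -/
theorem le_of_comm (hG : Red.IsReductive G) {mu lam : Red.Gm (Spec (CommRingCat.of R)) ⟶ G}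
    [IsMonHom mu] [IsMonHom lam] (hc : Comm mu lam) (hc' : Comm (bcLam mu f) (bcLam lam f))
    (hmin : IsMin mu) (hle : Le (bcLam lam f) (bcLam mu f)) : Le (bcLam mu f) (bcLam lam f) := by
  have hGa : IsAffineHom G.hom := hG.1
  have hGs : Smooth G.hom := hG.2.1
  have hG' := RedBcAny636.isReductive_bc f hG
  have hGa' : IsAffineHom (Red.bc f G).hom := hG'.1
  have hGs' : Smooth (Red.bc f G).hom := hG'.2.1
  obtain ⟨N₁, hN₁, h₁⟩ := exists_N hc
  obtain ⟨N₂, hN₂, h₂⟩ := exists_N hc'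
  set N := max N₁ N₂ with hN
  have hmon : IsMonHom (cmb N 1 mu lam) := isMonHom_cmb hc N 1
  have h3 : Le (cmb N 1 mu lam) mu := by
    intro X g hg
    obtain ⟨z, u, rfl, hz, -, hu⟩ := (h₁ N (le_max_left _ _) X g).1.1 hg
    exact (PtZ.ptP hz).mul (PtU.ptP hu)
  have h4 : Le mu (cmb N 1 mu lam) := hmin _ hmon h3
  intro X g hg
  have h5 : PtP (bcLam (cmb N 1 mu lam) f) g := ptP_bc_of f h4 X g hg
  rw [Bc.bcLam_cmb] at h5
  obtain ⟨z, u, rfl, -, hz, hu⟩ := (h₂ N (le_max_right _ _) X g).1.1 h5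
  exact hz.mul (PtU.ptP (RedFacts.ptU_of_le hG' hc'.symm hle hu))

end Step

section Hens

variable {O : Type u} [CommRing O] [HenselianLocalRing O]
  {G : Over (Spec (CommRingCat.of O))} [GrpObj G]
  {mu : Red.Gm (Spec (CommRingCat.of O)) ⟶ G} [IsMonHom mu]

/-- Minimality passes to the closed fibre. -/
theorem isMin_bc (hG : Red.IsReductive G) (h : IsMin mu) : IsMin (bcLam mu (cl O)) := by
  have hGa : IsAffineHom G.hom := hG.1
  have hGs : Smooth G.hom := hG.2.1
  have hG' := RedBcAny636.isReductive_bc (cl O) hG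
  have hGa' : IsAffineHom (Red.bc (cl O) G).hom := hG'.1
  have hGs' : Smooth (Red.bc (cl O) G).hom := hG'.2.1
  intro β hβ hle
  obtain ⟨w₀, hw₀, hc⟩ := exists_comm hG' (RedSub.H606.D5Any.d5All _ _ hG') hle
  obtain ⟨P, _, p, hp, hpar⟩ := DynTools.exists_isDynP mu hG
  obtain ⟨x, hx⟩ := ((hp.bc (cl O)).iff_ptP _ w₀).2 hw₀
  obtain ⟨v, hv⟩ := Bc.exists_sec_lift (P := P) hpar.2.2.1 x
  have hw : PtP mu (v ≫ p) := (hp.iff_ptP _ _).1 ⟨v, rfl⟩
  have hbw : bcSec (cl O) (v ≫ p) = w₀ := by rw [Bc.bcSec_comp, hv, hx]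
  have hmin' : IsMin (Ad.ad (v ≫ p) mu) := h.ad _
  have hbc : bcLam (Ad.ad (v ≫ p) mu) (cl O) = Ad.ad w₀ (bcLam mu (cl O)) := by
    rw [Bc.bcLam_ad, hbw]
  obtain ⟨Z, _, z, hz, -⟩ := DynExist998.exists_isDynZ (Ad.ad (v ≫ p) mu)
  have hc1 : Comm (bcLam (Ad.ad (v ≫ p) mu) (cl O)) β := by rw [hbc]; exact hc.symm
  obtain ⟨b, hb, hb'⟩ := LeviSub.exists_lift (hz.bc (cl O)) hc1
  have hZa : IsAffineHom Z.hom := OppS172.isAffineHom_of_closed z hz.isClosedImmersion hGa
  obtain ⟨l, hl, hl'⟩ := DynTools.exists_cochar_lift (G := Z) hz.smooth hZa b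
  have hzm := hz.isMonHom
  have hlam : bcLam (l ≫ z) (cl O) = β := by rw [bcLam_comp, hl', hb']
  have hcomm : Comm (Ad.ad (v ≫ p) mu) (l ≫ z) := LeviSub.comm_map hz l
  have he : Eqv (Ad.ad w₀ (bcLam mu (cl O))) (bcLam mu (cl O)) := eqv_ad hw₀
  have h6 := le_of_comm (cl O) hG hcomm (by rw [hlam]; exact hc1) hmin' (by
    rw [hlam, hbc]
    exact hle.trans he.2)
  rw [hlam, hbc] at h6
  exact he.2.trans h6

/-- **Minimal parabolic subgroups over a henselian local ring are those which are minimal on the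
closed fibre.** -/
theorem minPar_bc_iff (hG : Red.IsReductive G) {P : Over (Spec (CommRingCat.of O))} [GrpObj P]
    {p : P ⟶ G} (hp : Red.IsParabolic p) :
    MinPar p ↔ MinPar ((Over.pullback (cl O)).map p) := by
  obtain ⟨mu, hmu, hP⟩ := LevFin622.exists_cochar SplitFin885.splitTStmt hG p hp
  rw [minPar_iff hG hP, minPar_iff (RedBcAny636.isReductive_bc (cl O) hG) (hP.bc (cl O))]
  exact ⟨isMin_bc hG, isMin_of_bc hG⟩

end Hens

end Groth.Agent.K547.HensMin
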