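import Groth.Agent.Par.K545.BC
import Groth.Agent.RedSub.H664.RedFacts
import Groth.Agent.RedSub.H663.DynPair
import Groth.Agent.Sga3B.Parab.Func
import Groth.Agent.RedSub.H664.LeviSub

/-!
# Homomorphisms from a parabolic subgroup onto a reductive group kill the unipotent radical
-/

set_option autoImplicit false
set_option linter.unusedSectionVars false

universe u

open CategoryTheory CategoryTheory.Limits AlgebraicGeometry MonoidalCategory CartesianMonoidalCategory
  MonObj GrpObj

namespace Groth.Agent.K547.Kill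

open Groth.Agent.Sga3B Groth.Agent.Sga3B.Parab Groth.Agent.Sga3B.Par
open Groth.Agent.Sga3B.Parab.Dyn998 Groth.Agent.Sga3B.Parab.DynInter998
open Groth.Agent.Sga3B.Parab.RedCover147 Groth.Agent.Sga3B.Parab.LeviDesc147
open Groth.Agent.Sga3B.Parab.ConjPt

section Push

variable {S : Scheme.{u}} {G H : Over S} [GrpObj G] [GrpObj H] {mu : Red.Gm S ⟶ H} (i : H ⟶ G)
  [IsMonHom i]

lemma limOne_push {C : Type u} [CommRing C] {c : Spec (CommRingCat.of C) ⟶ S} {x : aff C c ⟶ H}
    (h : LimOne mu x) : LimOne (mu ≫ i) (x ≫ i) := by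
  obtain ⟨y, hy, hy'⟩ := h
  exact ⟨y ≫ i, by rw [OppS172.orb_push, ← hy, Category.assoc],
    by rw [← Category.assoc, hy', MonObj.one_comp]⟩

lemma ptU_push {X : Over S} {x : X ⟶ H} (h : PtU mu x) : PtU (mu ≫ i) (x ≫ i) := by
  intro C _ c y
  have := limOne_push i (h C c y)
  rwa [Category.assoc] at this

end Push

section Main

variable {S : Scheme.{u}} {P L : Over S} [GrpObj P] [GrpObj L]

/-- A closed subgroup containing the image of a surjective morphism to a smooth scheme is
everything. -/
theorem isIso_of_surjective {R : Over S} (r : R ⟶ L) [IsClosedImmersion r.left] [Smooth R.hom]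
    (hL : Red.IsReductive L) (f : P ⟶ L) [Surjective f.left] (x : P ⟶ R) (hx : x ≫ r = f) :
    IsIso r := by
  have hLs : Smooth L.hom := hL.2.1
  have hLa : IsAffineHom L.hom := hL.1
  refine FibIsoSch.isIso_of_fibres r fun s => ⟨AlgebraicClosure (S.residueField s), inferInstance,
    Red.geomPt s, OppS172.geomPt_closedPoint s, ?_⟩
  have h1 := FibIsoSch.isPullback_map_left (Red.geomPt s) r
  have hcl : IsClosedImmersion ((Over.pullback (Red.geomPt s)).map r).left :=
    MorphismProperty.of_isPullback h1 inferInstance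
  have hsr : Surjective r.left := by
    have : Surjective (x.left ≫ r.left) := by
      rw [← Over.comp_left, hx]
      infer_instance
    exact Surjective.of_comp x.left r.left
  have hsur : Surjective ((Over.pullback (Red.geomPt s)).map r).left :=
    MorphismProperty.of_isPullback h1 inferInstance
  have hsm : Smooth ((Over.pullback (Red.geomPt s)).obj L).hom :=
    inferInstanceAs (Smooth (pullback.snd L.hom (Red.geomPt s)))
  have hsa : IsAffineHom ((Over.pullback (Red.geomPt s)).obj L).hom :=
    inferInstanceAs (IsAffineHom (pullback.snd L.hom (Red.geomPt s)))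
  have hconn : ConnectedSpace (Red.geomFibre s L).left := (hL.2.2 s).2.2.1
  have hint : IsIntegral (Red.geomFibre s L).left :=
    DynGeom678.isIntegral_of_connected (Red.geomFibre s L)
  have hred : IsReduced ((Over.pullback (Red.geomPt s)).obj L).left :=
    inferInstanceAs (IsReduced (Red.geomFibre s L).left)
  have hiso : IsIso ((Over.pullback (Red.geomPt s)).map r).left :=
    isIso_of_isClosedImmersion_of_surjective _
  have h2 : IsIso ((Over.forget _).map ((Over.pullback (Red.geomPt s)).map r)) := hiso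
  exact isIso_of_reflects_iso _ (Over.forget _)

/-- If `f : P ⟶ L` is surjective, `L` reductive, and `P = P(λ)` then `f ∘ λ` is central in `L`. -/
theorem ptZ_of_surjective (hL : Red.IsReductive L) (f : P ⟶ L) [IsMonHom f] [Surjective f.left]
    (lam : Red.Gm S ⟶ P) [IsMonHom lam] (h : PtP lam (𝟙 P)) {X : Over S} (g : X ⟶ L) :
    PtZ (lam ≫ f) g := by
  have hLa : IsAffineHom L.hom := hL.1
  have hLs : Smooth L.hom := hL.2.1
  obtain ⟨R, _, r, hr, hrc⟩ := DynExist998.exists_isDynP (lam ≫ f)
  have h1 := OppS172.ptP_push f h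
  rw [Category.id_comp] at h1
  obtain ⟨x, hx⟩ := (hr.iff_ptP P f).2 h1
  have hrs : Smooth R.hom := hr.smooth
  have hiso : IsIso r := isIso_of_surjective r hL f x hx
  exact Groth.Agent.RedSub.H664.RedFacts.ptZ_of_forall_ptP hL (lam ≫ f) (fun X g =>
    (hr.iff_ptP X g).1 ⟨g ≫ inv r, by rw [Category.assoc, IsIso.inv_hom_id, Category.comp_id]⟩) X g

/-- A surjective homomorphism onto a reductive group kills the points of `U(λ)`, `P = P(λ)`. -/
theorem eq_one_of_ptU (hL : Red.IsReductive L) (f : P ⟶ L) [IsMonHom f] [Surjective f.left]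
    (lam : Red.Gm S ⟶ P) [IsMonHom lam] (h : PtP lam (𝟙 P)) {X : Over S} {u : X ⟶ P}
    (hu : PtU lam u) : u ≫ f = 1 := by
  have hLa : IsAffineHom L.hom := hL.1
  exact eq_one_of_ptU_ptZ (ptU_push f hu) (ptZ_of_surjective hL f lam h (u ≫ f))

end Main

section Desc

variable {S : Scheme.{u}} {G P L U : Over S} [GrpObj G] [GrpObj P] [GrpObj L] [GrpObj U]

/-- Base change of the neutral point. -/
lemma mem_eta_of_eq_one {S' : Scheme.{u}} (f : S' ⟶ S) {X : Over S} (a : X ⟶ L)
    (h : (Over.pullback f).map a = (1 : Red.bc f X ⟶ Red.bc f L)) :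
    Mem ((Over.pullback f).map η[L]) ((Over.pullback f).map a) := by
  rw [h]
  exact ⟨toUnit _ ≫ Functor.LaxMonoidal.ε (Over.pullback f), Category.assoc _ _ _⟩

lemma eq_one_of_mem_eta {X : Over S} (a : X ⟶ L) (h : Mem η[L] a) : a = 1 := by
  obtain ⟨x, rfl⟩ := h
  rw [toUnit_unique x (toUnit X)]
  rfl

/-- `u ≫ f = 1` can be checked étale locally. -/
lemma eq_one_of_cover {J : Type u} {S' : J → Scheme.{u}} {f : ∀ i, S' i ⟶ S} (hf : IsEtCov f)
    {X : Over S} (a : X ⟶ L)
    (h : ∀ i, (Over.pullback (f i)).map a = (1 : Red.bc (f i) X ⟶ Red.bc (f i) L)) : a = 1 := by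
  have hm : Mono η[L] := inferInstance
  exact eq_one_of_mem_eta a (mem_of_cover hf fun i => mem_eta_of_eq_one (f i) a (h i))

open Groth.Agent.RedSub.H664 Groth.Agent.RedSub.H664.Comb Groth.Agent.RedSub.H664.Calc2 in
/-- the case of a parabolic subgroup `P_G(λ)` -/
lemma kill_dyn (lam : Red.Gm S ⟶ G) [IsMonHom lam] (hGa : IsAffineHom G.hom) {p : P ⟶ G}
    (hp : IsDynP lam p)
    {u : U ⟶ P} (hu : IsDynU lam (u ≫ p)) (hL : Red.IsReductive L) (f : P ⟶ L) [IsMonHom f]
    [Surjective f.left] : u ≫ f = 1 := by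
  have hpm := hp.isMonHom
  have hpmono := hp.mono
  have hpc : IsClosedImmersion p.left := hp.isClosedImmersion
  obtain ⟨l, hl⟩ := (hp.iff_ptP _ lam).2 (comm_iff_ptZ.1 (comm_self lam)).ptP
  have hlm : IsMonHom l := OppS172.isMonHom_of_comp l p (by rw [hl]; infer_instance)
  have h1 : PtP l (𝟙 P) := by
    refine (LeviSub.pt_map_iff p Kd.P (κ := l) (g := 𝟙 P)).1 ?_
    rw [Category.id_comp, hl]
    exact hp.ptP
  have h2 : PtU l u := by
    refine (LeviSub.pt_map_iff p Kd.U (κ := l) (g := u)).1 ?_
    rw [hl]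
    exact hu.ptU
  exact eq_one_of_ptU hL f l h1 h2

/-- **A surjective homomorphism from a parabolic subgroup onto a reductive group kills the unipotent
radical.** -/
theorem kill (hG : Red.IsReductive G) (p : P ⟶ G) (hP : Red.IsParabolic p) (u : U ⟶ P)
    (hU : Par.IsUnipotentRadical u) (f : P ⟶ L) [IsMonHom f] (hL : Red.IsReductive L)
    (hf : Surjective f.left) : u ≫ f = 1 := by
  obtain ⟨J, S', g, hg, hcov, h⟩ := exists_isEtCov (Uncond688.radPcP p hG hP)
  refine eq_one_of_cover hcov _ fun i => ?_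
  obtain ⟨lam, hlam, hlp⟩ := h i
  have := hg i
  have hu := isDynU_bc Uncond688.radPcU Uncond688.radPcP hG hP hU (g i) lam hlp
  rw [Functor.map_comp] at hu
  have hG' := RedBcAny636.isReductive_bc (g i) hG
  have hL' := RedBcAny636.isReductive_bc (g i) hL
  have hsur : Surjective ((Over.pullback (g i)).map f).left :=
    MorphismProperty.of_isPullback (FibIsoSch.isPullback_map_left (g i) f) hf
  rw [Functor.map_comp]
  exact kill_dyn lam hG'.1 hlp hu hL' ((Over.pullback (g i)).map f)

/-- **Uniqueness of the unipotent radical of a parabolic subgroup from its geometric fibres.** -/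
theorem unique_rad (hG : Red.IsReductive G) (p : P ⟶ G) (hP : Red.IsParabolic p) (u : U ⟶ P)
    (hU : Par.IsUnipotentRadical u) {U' : Over S} [GrpObj U'] (u' : U' ⟶ P) [IsMonHom u']
    (hcl : IsClosedImmersion u'.left) (hs : Smooth U'.hom) (hn : AlgGrp.IsNormalHom u')
    (h : ∀ s : S, Par.IsUnipotentRadical ((Over.pullback (Red.geomPt s)).map u')) :
    ∃ e : U' ≅ U, e.hom ≫ u = u' := by
  have hGa : IsAffineHom G.hom := hG.1
  have hpc : IsClosedImmersion p.left := hP.2.1
  have hPa : IsAffineHom P.hom := OppS172.isAffineHom_of_closed p hpc hGa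
  have hU'a : IsAffineHom U'.hom := OppS172.isAffineHom_of_closed u' hcl hPa
  have hUm := hU.1
  have hUc := hU.2.1
  have hUs := hU.2.2.2.1
  have hUmono : Mono u := Groth.Agent.Sga3C.ClosedSub.mono_of_left u
  have hiso : ∀ s : S, ∃ e : Red.geomFibre s U' ≅ Red.geomFibre s U,
      e.hom ≫ (Over.pullback (Red.geomPt s)).map u = (Over.pullback (Red.geomPt s)).map u' :=
    fun s => RedSub.H663.DynPair.exists_iso_rad (h s)
      (_root_.K545.BC.isUnipotentRadical_bc hG hP hU (Red.geomPt s))
  have hfib : ∀ s : S, ConnectedSpace (Red.geomFibre s U').left ∧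
      Red.HasNoSubtorus (AlgebraicClosure (S.residueField s)) (Red.geomFibre s U') := by
    intro s
    obtain ⟨e, he⟩ := hiso s
    obtain ⟨h1, h2⟩ := hU.2.2.2.2.2.1 s
    have hm : IsMonHom ((Over.pullback (Red.geomPt s)).map u) := inferInstance
    have hm' : IsMonHom ((Over.pullback (Red.geomPt s)).map u') := inferInstance
    have hem : IsMonHom e.hom := OppS172.isMonHom_of_comp e.hom
      ((Over.pullback (Red.geomPt s)).map u) (by rw [he]; exact hm')
    refine ⟨?_, RG.BrRed2.hasNoSubtorus_of_mono e.hom h2⟩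
    let e' : (Red.geomFibre s U').left ≅ (Red.geomFibre s U).left := (Over.forget _).mapIso e
    exact (Scheme.homeoOfIso e').symm.surjective.connectedSpace (Scheme.homeoOfIso e').symm.continuous
  obtain ⟨f, hf⟩ := hU.2.2.2.2.2.2 U' u' hcl hn hs inferInstance hfib
  have hfc : IsClosedImmersion f.left := by
    have h8 : IsClosedImmersion (f.left ≫ u.left) := by
      rw [← Over.comp_left, hf]
      exact hcl
    exact .of_comp f.left u.left
  have hfi : IsIso f := by
    refine FibIsoSch.isIso_of_fibres f fun s => ⟨AlgebraicClosure (S.residueField s), inferInstance,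
      Red.geomPt s, OppS172.geomPt_closedPoint s, ?_⟩
    obtain ⟨e, he⟩ := hiso s
    have h9 : (Over.pullback (Red.geomPt s)).map f = e.hom := by
      rw [← cancel_mono ((Over.pullback (Red.geomPt s)).map u), he, ← Functor.map_comp, hf]
    rw [h9]
    infer_instance
  exact ⟨asIso f, hf⟩

end Desc

end Groth.Agent.K547.Kill
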