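import Groth.Agent.Par.K546.ProdGlob
import Groth.Agent.Par.K547.Kill

/-!
# The unipotent radical of the intersection of two parabolic subgroups in standard position

`P = P_G(α)`, `Q = P_G(β)`, `K = P ∩ Q`, `P' = P_G(Nα + β)`; then `K = P_Q(Nα + β)`, its unipotent
radical is `U_Q(Nα + β) = rad^u(P') ∩ K`.
-/

set_option autoImplicit false
set_option linter.unusedSectionVars false

universe u

open CategoryTheory CategoryTheory.Limits AlgebraicGeometry MonoidalCategory CartesianMonoidalCategory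
  MonObj GrpObj

namespace Groth.Agent.K547.InterRad

open Groth.Agent.Sga3B Groth.Agent.Sga3B.Parab Groth.Agent.Sga3B.Par
open Groth.Agent.Sga3B.Parab.RedCover147 Groth.Agent.Sga3B.Parab.LeviDesc147
open Groth.Agent.Sga3B.Parab.ConjPt
open Groth.Agent.RedSub.H664.Comb Groth.Agent.RedSub.H664.Calc2 Groth.Agent.RedSub.H664.Calc3
open _root_.K546.LocPQ _root_.K546.ProdGlob

section Gen

variable {S : Scheme.{u}} {G P U Z : Over S} [GrpObj G] [GrpObj P] [GrpObj U] [GrpObj Z]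

/-- `U_G(λ)` is the unipotent radical of `P_G(λ)` if `Z_G(λ)` is reductive. -/
theorem isUnipotentRadical_gen (lam : Red.Gm S ⟶ G) [IsMonHom lam] (hGa : IsAffineHom G.hom)
    (hGs : Smooth G.hom) (p : P ⟶ G) (hp : IsDynP lam p) (u : U ⟶ P)
    (hu : IsDynU lam (u ≫ p)) (z : Z ⟶ P) (hz : IsDynZ lam (z ≫ p)) (hZ : Red.IsReductive Z) :
    Par.IsUnipotentRadical u := by
  have hpm := hp.isMonHom
  have hpmono := hp.mono
  have hpcl : IsClosedImmersion p.left := hp.isClosedImmersion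
  have hzcl : IsClosedImmersion (z ≫ p).left := hz.isClosedImmersion
  have hucl : IsClosedImmersion (u ≫ p).left := hu.isClosedImmersion
  have hum : IsMonHom u := DynLevi998.isMonHom_uP hp hu
  have hzm : IsMonHom z := DynLevi998.isMonHom_zP hp hz
  have hiso : IsIso ((z ⊗ₘ u) ≫ μ[P]) := DynLevi998.isIso_levi hp hz hu
  have hun : AlgGrp.IsNormalHom u := DynLevi998.isNormalHom_uP hp hu
  have hUa : IsAffineHom U.hom := isAffineHom_of_closed (u ≫ p) hucl hGa
  have hPa : IsAffineHom P.hom := isAffineHom_of_closed p hpcl hGa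
  have hzcl' : IsClosedImmersion z.left := by
    have : IsClosedImmersion (z.left ≫ p.left) := hzcl
    exact .of_comp z.left p.left
  have hucl' : IsClosedImmersion u.left := by
    have : IsClosedImmersion (u.left ≫ p.left) := hucl
    exact .of_comp u.left p.left
  refine ⟨hum, hucl', hun, hu.smooth, inferInstance, fun s => ?_, ?_⟩
  · have hGas : IsAffineHom (Red.geomFibre s G).hom :=
      inferInstanceAs (IsAffineHom (pullback.snd G.hom (Red.geomPt s)))
    have hGsm : Smooth (Red.geomFibre s G).hom :=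
      inferInstanceAs (Smooth (pullback.snd G.hom (Red.geomPt s)))
    exact DynGeom678.dynGeomU _ (Red.geomFibre s G) (bcLam lam (Red.geomPt s)) hGas hGsm
      (Red.geomFibre s U) ((Over.pullback (Red.geomPt s)).map (u ≫ p)) (hu.bc _)
  · intro V _ v _ hvcl hvn hvs hvq hvf
    have hVa : IsAffineHom V.hom := isAffineHom_of_closed v hvcl hPa
    have hvp : IsClosedImmersion (v ≫ p).left :=
      inferInstanceAs (IsClosedImmersion (v.left ≫ p.left))
    obtain ⟨n, hn⟩ := LimLift.exists_proj hp hz hu v hvp hvn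
    exact Groth.Agent.Sga3B.Parab.Kill.exists_factor z u hzcl' hZ v hvcl hvn hvs hVa hvf n hn

end Gen

section Local

variable {R : Type u} [CommRing R] {G P Q K U' P' V : Over (Spec (CommRingCat.of R))} [GrpObj G]
  [GrpObj P] [GrpObj Q] [GrpObj K] [GrpObj U'] [GrpObj P'] [GrpObj V]
  {α β : Red.Gm (Spec (CommRingCat.of R)) ⟶ G} [IsMonHom α] [IsMonHom β]
  {p : P ⟶ G} {q : Q ⟶ G} {m : K ⟶ P} {m' : K ⟶ Q} {p' : P' ⟶ G}

/-- The local computation. -/
theorem local_main (hG : Red.IsReductive G) (hc : Comm α β) (hp : IsDynP α p) (hq : IsDynP β q)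
    [IsMonHom m] (hK : IsPullback m m' p q) {N₀ : ℤ}
    (hp' : ∀ N ≥ N₀, IsDynP (cmb N 1 α β) p') (k' : K ⟶ P') (hk' : k' ≫ p' = m ≫ p)
    (u' : U' ⟶ P') (hU' : Par.IsUnipotentRadical u') (v₁ : V ⟶ U') (v₂ : V ⟶ K) [IsMonHom v₂]
    (hV : IsPullback v₁ v₂ u' k') : Par.IsUnipotentRadical v₂ := by
  have hGa : IsAffineHom G.hom := hG.1
  have hGs : Smooth G.hom := hG.2.1
  obtain ⟨N₁, hN₁, h₁⟩ := Groth.Agent.RedSub.H664.Calc3.exists_N hc
  obtain ⟨N, hN, hN', hN''⟩ : ∃ N : ℤ, N ≥ N₀ ∧ N ≥ N₁ ∧ 0 ≤ N :=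
    ⟨max N₀ N₁, le_max_left _ _, le_max_right _ _, le_trans hN₁.le (le_max_right _ _)⟩
  have hkap : IsMonHom (cmb N 1 α β) := isMonHom_cmb hc N 1
  have hP' := hp' N hN
  have hpm := hp.isMonHom
  have hqm := hq.isMonHom
  have hpmono := hp.mono
  have hqmono := hq.mono
  have hqcl : IsClosedImmersion q.left := hq.isClosedImmersion
  have hp'mono := hP'.mono
  have hp'm := hP'.isMonHom
  have hpcl : IsClosedImmersion p.left := hp.isClosedImmersion
  -- `P(κ) ≤ P(α)`
  have hle : ∀ (X : Over (Spec (CommRingCat.of R))) (g : X ⟶ G), PtP (cmb N 1 α β) g → PtP α g := by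
    intro X g hg
    obtain ⟨z, u, rfl, hz, -, hu⟩ := (h₁ N hN' X g).1.1 hg
    exact (PtZ.ptP hz).mul (PtU.ptP hu)
  have hge : ∀ (X : Over (Spec (CommRingCat.of R))) (g : X ⟶ G), PtP α g → PtP β g →
      PtP (cmb N 1 α β) g := by
    intro X g h1 h2
    have h1' : Kd.pt Kd.P (cmb 1 0 α β) g := by rw [cmb_one_zero]; exact h1
    have h2' : Kd.pt Kd.P (cmb 0 1 α β) g := by rw [cmb_zero_one]; exact h2
    exact Groth.Agent.RedSub.H664.Calc3.imp2 hc Kd.P Kd.P Kd.P (fun i j hi hj => by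
      have hi' : 0 ≤ 1 * i + 0 * j := hi
      have hj' : 0 ≤ 0 * i + 1 * j := hj
      change 0 ≤ N * i + 1 * j
      have : 0 ≤ N * i := mul_nonneg hN'' (by linarith)
      linarith) h1' h2'
  -- `κ` as a cocharacter of `Q`
  obtain ⟨kq, hkq⟩ := (hq.iff_ptP _ (cmb N 1 α β)).2
    (comm_iff_ptZ.1 (comm_cmb_right hc N 1)).ptP
  have hkqm : IsMonHom kq := OppS172.isMonHom_of_comp kq q (by rw [hkq]; infer_instance)
  have hm'm : IsMonHom m' := OppS172.isMonHom_of_comp m' q (by rw [← hK.w]; infer_instance)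
  have hQa : IsAffineHom Q.hom := isAffineHom_of_closed q hqcl hGa
  have hm'mono : Mono m' := ⟨fun a b hab => hK.hom_ext (by
    rw [← cancel_mono p, Category.assoc, Category.assoc, hK.w, reassoc_of% hab]) hab⟩
  have hmmono : Mono m := _root_.K546.Prod.mono_m hK hqmono
  -- `K = P_Q(κ)`
  have hKd : IsDynP kq m' := DynClosed998.isDynP_of_comp (i := q) fun X g => by
    rw [hkq]
    constructor
    · rintro ⟨x, rfl⟩
      have e1 : (x ≫ m') ≫ q = (x ≫ m) ≫ p := by
        rw [Category.assoc, ← hK.w, Category.assoc]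
      refine hge X _ ?_ ?_
      · rw [e1]
        exact (hp.iff_ptP _ _).1 ⟨x ≫ m, rfl⟩
      · exact (hq.iff_ptP _ _).1 ⟨x ≫ m', rfl⟩
    · intro h
      obtain ⟨y, hy⟩ := (hp.iff_ptP _ _).2 (hle X _ h)
      exact ⟨hK.lift y g hy, hK.lift_snd _ _ _⟩
  -- `Z_Q(κ) = Z_G(κ)`
  obtain ⟨Z, _, z', hz', -⟩ := DynExist998.exists_isDynZ kq
  have hz'm := hz'.isMonHom
  have hz'mono := hz'.mono
  have hZG : IsDynZ (cmb N 1 α β) (z' ≫ q) := ⟨inferInstance, inferInstance, fun X g => by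
    constructor
    · rintro ⟨x, rfl⟩
      have h1 : PtZ kq (x ≫ z') := (hz'.iff_ptZ _ _).1 ⟨x, rfl⟩
      have h2 := (DynClosed998.ptZ_comp_iff (i := q) (mu := kq) (x ≫ z')).2 h1
      rw [hkq, Category.assoc] at h2
      exact h2
    · intro h
      obtain ⟨y, hy⟩ := (hq.iff_ptP _ _).2 ((h₁ N hN' X g).2.2.1 h).2.ptP
      have h2 : PtZ kq y := (DynClosed998.ptZ_comp_iff (i := q) (mu := kq) y).1 (by
        rw [hkq, hy]; exact h)
      obtain ⟨x, hx⟩ := (hz'.iff_ptZ _ _).2 h2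
      exact ⟨x, by rw [← Category.assoc, hx, hy]⟩⟩
  have hZr : Red.IsReductive Z := isReductive_of_isDynZ _ K3b143.dynK3 hG (z' ≫ q) hZG
  obtain ⟨z, hz⟩ := DynLevi998.exists_zP hKd hz'
  -- `V = U_Q(κ)`
  have hu'm := hU'.1
  have hu'cl := hU'.2.1
  have hu'mono : Mono u' := Groth.Agent.Sga3C.ClosedSub.mono_of_left u'
  have hUd : IsDynU (cmb N 1 α β) (u' ≫ p') :=
    RedSub.H663.DynPair.isDynU_of_isUnipotentRadical hG _ hP' hU'
  have hv₂mono : Mono v₂ := ⟨fun a b hab => hV.hom_ext (by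
    rw [← cancel_mono u', Category.assoc, Category.assoc, hV.w, reassoc_of% hab]) hab⟩
  have e2 : m ≫ p = m' ≫ q := hK.w
  have hVd : IsDynU kq (v₂ ≫ m') := DynClosed998.isDynU_of_comp (i := q) fun X g => by
    rw [hkq, ← hUd.iff_ptU]
    constructor
    · rintro ⟨x, rfl⟩
      refine ⟨x ≫ v₁, ?_⟩
      rw [Category.assoc, ← Category.assoc v₁, hV.w]
      simp only [Category.assoc]
      rw [hk', e2]
    · rintro ⟨y, hy⟩
      obtain ⟨k, hk⟩ := (hKd.iff_ptP _ g).2 ((DynClosed998.ptP_comp_iff (i := q) (mu := kq) g).1 (by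
        rw [hkq]
        exact ((hUd.iff_ptU _ _).1 ⟨y, hy⟩).ptP))
      have h4 : y ≫ u' = k ≫ k' := by
        rw [← cancel_mono p', Category.assoc, hy, Category.assoc, hk', e2, ← Category.assoc, hk]
      exact ⟨hV.lift y k h4, by rw [← Category.assoc, hV.lift_snd, hk]⟩
  exact isUnipotentRadical_gen kq hQa hq.smooth m' hKd v₂ hVd z (by rw [hz]; exact hz') hZr

end Local

end Groth.Agent.K547.InterRad
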