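import Groth.Agent.Par.K547.InterRad
import Groth.Agent.Sga3B.Parab.Inter

/-!
# `rad^u(P ∩ Q) = rad^u(P') ∩ (P ∩ Q)` for `P' = rad^u(P) (P ∩ Q)`
-/

set_option autoImplicit false
set_option linter.unusedSectionVars false

universe u

open CategoryTheory CategoryTheory.Limits AlgebraicGeometry MonoidalCategory CartesianMonoidalCategory
  MonObj GrpObj

namespace Groth.Agent.K547.InterRad

open Groth.Agent.Sga3B Groth.Agent.Sga3B.Parab Groth.Agent.Sga3B.Par
open Groth.Agent.Sga3B.Parab.RedCover147 Groth.Agent.Sga3B.Parab.LeviDesc147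
open Groth.Agent.Sga3B.Parab.ConjPt
open Groth.Agent.RedSub.H664.Comb
open _root_.K546.LocPQ _root_.K546.ProdGlob

/-- A surjective closed immersion to a smooth affine group scheme with connected fibres is an
isomorphism (on the level of the base: the source is smooth). -/
theorem isIso_of_surj {S : Scheme.{u}} {R L : Over S} [GrpObj L] (r : R ⟶ L)
    [IsClosedImmersion r.left] [Smooth R.hom] (hLs : Smooth L.hom) (hLa : IsAffineHom L.hom)
    (hc : ∀ s : S, ConnectedSpace (Red.geomFibre s L).left) (hsr : Surjective r.left) :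
    IsIso r := by
  refine FibIsoSch.isIso_of_fibres r fun s => ⟨AlgebraicClosure (S.residueField s), inferInstance,
    Red.geomPt s, OppS172.geomPt_closedPoint s, ?_⟩
  have h1 := FibIsoSch.isPullback_map_left (Red.geomPt s) r
  have hcl : IsClosedImmersion ((Over.pullback (Red.geomPt s)).map r).left :=
    MorphismProperty.of_isPullback h1 inferInstance
  have hsur : Surjective ((Over.pullback (Red.geomPt s)).map r).left :=
    MorphismProperty.of_isPullback h1 inferInstance
  have hsm : Smooth ((Over.pullback (Red.geomPt s)).obj L).hom :=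
    inferInstanceAs (Smooth (pullback.snd L.hom (Red.geomPt s)))
  have hsa : IsAffineHom ((Over.pullback (Red.geomPt s)).obj L).hom :=
    inferInstanceAs (IsAffineHom (pullback.snd L.hom (Red.geomPt s)))
  have hconn : ConnectedSpace (Red.geomFibre s L).left := hc s
  have hint : IsIntegral (Red.geomFibre s L).left :=
    DynGeom678.isIntegral_of_connected (Red.geomFibre s L)
  have hred : IsReduced ((Over.pullback (Red.geomPt s)).obj L).left :=
    inferInstanceAs (IsReduced (Red.geomFibre s L).left)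
  have hiso : IsIso ((Over.pullback (Red.geomPt s)).map r).left :=
    isIso_of_isClosedImmersion_of_surjective _
  have h2 : IsIso ((Over.forget _).map ((Over.pullback (Red.geomPt s)).map r)) := hiso
  exact isIso_of_reflects_iso _ (Over.forget _)

section Glob

variable {S : Scheme.{u}} {G P Q K U P' : Over S} [GrpObj G] [GrpObj P] [GrpObj Q] [GrpObj K]
  [GrpObj U] [GrpObj P']

/-- The given `P'` is the one of `ProdGlob.main`. -/
theorem locProd_of_surjective (hG : Red.IsReductive G) {p : P ⟶ G} {q : Q ⟶ G}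
    (hP : Red.IsParabolic p) (hQ : Red.IsParabolic q) {m : K ⟶ P} {m' : K ⟶ Q} [IsMonHom m]
    (hK : IsPullback m m' p q) {uU : U ⟶ P} (hU : Par.IsUnipotentRadical uU)
    (hloc : ∀ s : S, LocForm p q s) {p' : P' ⟶ G} (hP' : Red.IsParabolic p') (f' : U ⊗ K ⟶ P')
    (hf' : f' ≫ p' = (fst U K ≫ uU ≫ p) * (snd U K ≫ m ≫ p)) (hsurj : Surjective f'.left)
    (s : S) : LocProd p q p' s := by
  have hp := hP.1
  have hp' := hP'.1
  have hGa := hG.1
  have hpm : Mono p := OppRow172.mono_of_closed p hP.2.1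
  have hp'm : Mono p' := OppRow172.mono_of_closed p' hP'.2.1
  have hp'cl : IsClosedImmersion p'.left := hP'.2.1
  obtain ⟨P'', _, p'', a, b, hP'', ha, hb, hap, hbp, h1, h2, h3⟩ :=
    _root_.K546.ProdGlob.main hG hP hQ hK hU hloc
  have hp'' := hP''.1
  have hp''m : Mono p'' := OppRow172.mono_of_closed p'' hP''.2.1
  have hp''cl : IsClosedImmersion p''.left := hP''.2.1
  have hp''s : Smooth P''.hom := hP''.2.2.1
  let F : U ⊗ K ⟶ P'' := (a ⊗ₘ b) ≫ μ[P'']
  have hF : F ≫ p'' = f' ≫ p' := by
    change ((a ⊗ₘ b) ≫ μ[P'']) ≫ p'' = _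
    rw [hf', _root_.K546.MulSec.tensorHom_mul, MonObj.mul_comp, Category.assoc, Category.assoc,
      hap, hbp]
  have hFs : Smooth F.left := h1
  have hFsur : Surjective F.left := h2
  obtain ⟨j, hj⟩ : Mem p' p'' := EtHom.of_flat (ConjPt.isLocalPt_mem p') F p''
    ⟨f', hF.symm⟩
  have hFj : F ≫ j = f' := by
    rw [← cancel_mono p', Category.assoc, hj, hF]
  have hjm : IsMonHom j := OppS172.isMonHom_of_comp j p' (by rw [hj]; infer_instance)
  have hjcl : IsClosedImmersion j.left := by
    have : IsClosedImmersion (j.left ≫ p'.left) := by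
      rw [← Over.comp_left, hj]
      exact hp''cl
    exact .of_comp j.left p'.left
  have hjs : Surjective j.left := by
    have : Surjective (F.left ≫ j.left) := by
      rw [← Over.comp_left, hFj]
      exact hsurj
    exact Surjective.of_comp F.left j.left
  have hiso : IsIso j := isIso_of_surj j hP'.2.2.1 (isAffineHom_of_closed p' hp'cl hGa)
    (RedSub.H663.DynPair.parConn p' hG hP') hjs
  obtain ⟨R, _, f, hf, hs, α, β, hα, hβ, hc, h4, h5, N₀, h6⟩ := h3 s
  refine ⟨R, inferInstance, f, hf, hs, α, β, hα, hβ, hc, h4, h5, N₀, fun N hN => ?_⟩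
  have h7 := h6 N hN
  have e1 : (Over.pullback f).map j ≫ (Over.pullback f).map p' = (Over.pullback f).map p'' := by
    rw [← CategoryTheory.Functor.map_comp, hj]
  have hmono : Mono ((Over.pullback f).map p') := inferInstance
  refine ⟨inferInstance, inferInstance, fun X g => ?_⟩
  rw [← h7.iff_ptP, ← e1]
  constructor
  · rintro ⟨x, rfl⟩
    exact ⟨x ≫ inv ((Over.pullback f).map j), by
      rw [Category.assoc, IsIso.inv_hom_id_assoc]⟩
  · rintro ⟨x, rfl⟩
    exact ⟨x ≫ (Over.pullback f).map j, by rw [Category.assoc]⟩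

/-- **The unipotent radical of `P ∩ Q`.** -/
theorem main (hG : Red.IsReductive G) {p : P ⟶ G} {q : Q ⟶ G}
    (hP : Red.IsParabolic p) (hQ : Red.IsParabolic q) {m : K ⟶ P} {m' : K ⟶ Q} [IsMonHom m]
    (hK : IsPullback m m' p q) {p' : P' ⟶ G} (hP' : Red.IsParabolic p')
    (hloc : ∀ s : S, LocProd p q p' s) {U' UK : Over S} [GrpObj U'] [GrpObj UK]
    (k' : K ⟶ P') (hk' : k' ≫ p' = m ≫ p) (u' : U' ⟶ P') (hU' : Par.IsUnipotentRadical u')
    (v : UK ⟶ K) (hV : Par.IsUnipotentRadical v) :
    ∃ a : UK ⟶ U', IsPullback a v u' k' := by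
  have hp := hP.1
  have hp' := hP'.1
  have hu' := hU'.1
  have hu'cl := hU'.2.1
  have hp'm : Mono p' := OppRow172.mono_of_closed p' hP'.2.1
  have hpm : Mono p := OppRow172.mono_of_closed p hP.2.1
  have hqm : Mono q := OppRow172.mono_of_closed q hQ.2.1
  have hu'm : Mono u' := Groth.Agent.Sga3C.ClosedSub.mono_of_left u'
  have hk'm : IsMonHom k' := OppS172.isMonHom_of_comp k' p' (by rw [hk']; infer_instance)
  have hmm : Mono m := _root_.K546.Prod.mono_m hK hqm
  have hk'mono : Mono k' := by
    have : Mono (k' ≫ p') := by rw [hk']; infer_instance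
    exact mono_of_mono k' p'
  obtain ⟨V, _, v₁, v₂, hv₁, hv₂, hVpb⟩ := Inter.exists_inter u' k'
  have hcov := exists_isEtCov (S := S) (Q := fun S' f =>
    Par.IsUnipotentRadical ((Over.pullback f).map v₂)) fun s => by
      obtain ⟨R, _, f, hf, hs, α, β, hα, hβ, hc, h1, h2, N₀, h3⟩ := hloc s
      refine ⟨_, f, hf, hs, ?_⟩
      exact local_main (RedBcAny636.isReductive_bc f hG) hc h1 h2 (hK.map (Over.pullback f)) h3
        ((Over.pullback f).map k') (by
          rw [← CategoryTheory.Functor.map_comp, hk', CategoryTheory.Functor.map_comp])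
        ((Over.pullback f).map u') (_root_.K545.BC.isUnipotentRadical_bc hG hP' hU' f)
        ((Over.pullback f).map v₁) ((Over.pullback f).map v₂) (hVpb.map (Over.pullback f))
  obtain ⟨J, S', f, -, hcov, hf⟩ := hcov
  have h := isUnipotentRadical_of_cover hcov hv₂ hf
  obtain ⟨e, he⟩ := RedSub.H663.DynPair.exists_iso_rad hV h
  refine ⟨e.hom ≫ v₁, IsPullback.of_iso hVpb e.symm (Iso.refl _) (Iso.refl _) (Iso.refl _) ?_ ?_ ?_ ?_⟩
  · simp
  · rw [Iso.refl_hom, Category.comp_id, Iso.symm_hom, ← he, Iso.inv_hom_id_assoc]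
  · simp
  · simp

end Glob

end Groth.Agent.K547.InterRad
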