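import Groth.Agent.Par.K547.SplTor
import Groth.Agent.Par.K547.HensMin
import Groth.Agent.Sga3.H827.KerLoc
import Groth.Agent.Sga3B.SplitBc264

/-!
# Lifting maximal split tori over a henselian local ring
-/

set_option autoImplicit false
set_option linter.unusedSectionVars false

universe u

open CategoryTheory CategoryTheory.Limits AlgebraicGeometry MonoidalCategory CartesianMonoidalCategory
  MonObj GrpObj

namespace Groth.Agent.K547.LiftSpl

open Groth.Agent.Sga3B Groth.Agent.Sga3B.Parab Groth.Agent.Sga3B.Par Groth.Agent.Sga3B.DSPts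
open Groth.Agent.Sga3B.InfConj Groth.Agent.Sga3B.InfConjFam
open Groth.Agent.Sga3B.Parab.OrbM156 HensLift SplTor

section Mono

lemma eq_zero_of_DSmap_eq_one {k : Type u} [CommRing k] [Nontrivial k] {M N : Type}
    [AddCommGroup M] [AddCommGroup N] (φ : M →+ N)
    (h : Red.DSmap (Spec (CommRingCat.of k)) φ = 1) : φ = 0 := by
  have h1 : charPt (C := k) (MonoidAlgebra.of k (Multiplicative N)) ≫
      Red.DSmap (Spec (CommRingCat.of k)) φ = charPt (C := k) 1 := by
    rw [h, MonObj.comp_one]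
    unfold charPt
    rw [MonoidHom.comp_one]
    exact ((dsEquiv (pt k (MonoidAlgebra k (Multiplicative N))) M).map_one).symm
  rw [Groth.Agent.Sga3.H827.KerLoc.charPt_DSmap] at h1
  have h2 := DSRigid.charPt_injective h1
  ext m
  have h3 := DFunLike.congr_fun h2 (Multiplicative.ofAdd m)
  have h4 : MonoidAlgebra.of k (Multiplicative N) (Multiplicative.ofAdd (φ m)) =
      MonoidAlgebra.of k (Multiplicative N) 1 := by
    rw [map_one]
    exact h3
  exact Multiplicative.ofAdd.injective (MonoidAlgebra.of_injective h4)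

section Gen

variable {S S' : Scheme.{u}} (f : S' ⟶ S) {M : Type} [AddCommGroup M]

/-- the point of `D(M)` with values in `D(M/N)`, after base change -/
noncomputable def quoPt (N : AddSubgroup M) :
    (Over.map f).obj (Red.DS S' (M ⧸ N)) ⟶ Red.DS S M :=
  (bcEquiv f _ (Red.DS S M)).symm
    (Red.DSmap S' (QuotientAddGroup.mk' N) ≫ (TorusAlgClosed.dsBcIso f M).inv.hom.hom)

lemma dsBcIso_inv_hom_id {X : Over S'} (x : X ⟶ Red.DS S' M) :
    (x ≫ (TorusAlgClosed.dsBcIso f M).inv.hom.hom) ≫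
      (TorusAlgClosed.dsBcIso f M).hom.hom.hom = x := by
  have e2 : (TorusAlgClosed.dsBcIso f M).inv.hom.hom ≫ (TorusAlgClosed.dsBcIso f M).hom.hom.hom =
    𝟙 _ := congrArg (fun k => k.hom.hom) (TorusAlgClosed.dsBcIso f M).inv_hom_id
  rw [Category.assoc, e2, Category.comp_id]

lemma dsChar_quoPt (N : AddSubgroup M) : dsChar (quoPt f N) =
    (dsChar (Red.DSmap S' (QuotientAddGroup.mk' N)) : Multiplicative M →* _) := by
  rw [quoPt, ← SplitBc264.dsChar_dsBcIso f, dsBcIso_inv_hom_id]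

lemma dsChar_quoPt_of_mem (N : AddSubgroup M) {n : M} (hn : n ∈ N) :
    dsChar (quoPt f N) (Multiplicative.ofAdd n) = 1 := by
  have e5 : Red.DSmap S' (QuotientAddGroup.mk' N) =
    𝟙 _ ≫ Red.DSmap S' (QuotientAddGroup.mk' N) := (Category.id_comp _).symm
  rw [dsChar_quoPt, e5, dsChar_DSmap]
  have e6 : AddMonoidHom.toMultiplicative (QuotientAddGroup.mk' N) (Multiplicative.ofAdd n) = 1 := by
    change Multiplicative.ofAdd (QuotientAddGroup.mk' N n) = 1
    exact congrArg Multiplicative.ofAdd ((QuotientAddGroup.eq_zero_iff n).2 hn)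
  rw [MonoidHom.comp_apply, e6, map_one]

lemma eq_one_of_quoPt {G : Over S} [GrpObj G] (J : Red.DS S M ⟶ G) [IsMonHom J]
    (h : Mono ((Over.pullback f).map J)) (N : AddSubgroup M) (hN : quoPt f N ≫ J = 1) :
    Red.DSmap S' (QuotientAddGroup.mk' N) = 1 := by
  have e7 : bcEquiv f _ _ (quoPt f N) = 1 := by
    rw [← cancel_mono ((Over.pullback f).map J), bcEquiv_comp, hN, map_one, MonObj.one_comp]
  rw [quoPt, MulEquiv.apply_symm_apply] at e7
  have hm : IsMonHom (TorusAlgClosed.dsBcIso f M).hom.hom.hom :=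
    (TorusAlgClosed.dsBcIso f M).hom.hom.isMonHom_hom
  have e8 : (1 : Red.DS S' (M ⧸ N) ⟶ Red.bc f (Red.DS S M)) ≫
      (TorusAlgClosed.dsBcIso f M).hom.hom.hom = 1 := MonObj.one_comp _
  rw [← dsBcIso_inv_hom_id f (Red.DSmap S' (QuotientAddGroup.mk' N)), e7]
  exact e8

/-- A homomorphism from `D(M)` whose kernel is trivial is a monomorphism. -/
lemma mono_of_ker {G : Over S} [GrpObj G] (J : Red.DS S M ⟶ G) [IsMonHom J]
    (h : ∀ (T : Over S) (x : T ⟶ Red.DS S M), x ≫ J = 1 → ∀ m, dsChar x m = 1) : Mono J := by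
  refine ⟨fun {T} x y hxy => ?_⟩
  have h1 : (x * y⁻¹) ≫ J = 1 := by
    rw [MonObj.mul_comp, GrpObj.inv_comp, hxy, mul_inv_cancel]
  have h2 : x * y⁻¹ = 1 := by
    apply (dsEquiv T M).symm.injective
    rw [map_one]
    exact MonoidHom.ext fun m => h T _ h1 m
  exact mul_inv_eq_one.1 h2

end Gen

/-- A homomorphism from a diagonalisable group to a separated group over a local ring is a
monomorphism if it is one after a base change to a non-empty affine scheme. -/
theorem mono_of_bc {R : Type u} [CommRing R] [IsLocalRing R] {k : Type u} [CommRing k]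
    [Nontrivial k] (f : Spec (CommRingCat.of k) ⟶ Spec (CommRingCat.of R)) {M : Type}
    [AddCommGroup M] [AddGroup.FG M] {G : Over (Spec (CommRingCat.of R))} [GrpObj G]
    (J : Red.DS (Spec (CommRingCat.of R)) M ⟶ G) [IsMonHom J] [IsSeparated G.hom]
    [LocallyOfFiniteType G.hom] (h : Mono ((Over.pullback f).map J)) : Mono J := by
  obtain ⟨a, ha, N, hN⟩ := Groth.Agent.Sga3.H827.KerLoc.exists_local J (IsLocalRing.maximalIdeal R)
  have ha' : IsUnit a := by
    by_contra h0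
    exact ha ((IsLocalRing.mem_maximalIdeal a).2 h0)
  have hN' : ∀ (T : Over (Spec (CommRingCat.of R))) (x : T ⟶ Red.DS (Spec (CommRingCat.of R)) M),
      x ≫ J = 1 ↔ ∀ n ∈ N, dsChar x (Multiplicative.ofAdd n) = 1 := fun T x =>
    hN T (by
      let _ := Groth.Agent.Sga3.H827.KerPts.algT T
      exact ha'.map _) x
  have e10 := eq_one_of_quoPt f J h N ((hN' _ _).2 fun n hn => dsChar_quoPt_of_mem f N hn)
  have e11 := eq_zero_of_DSmap_eq_one _ e10
  exact mono_of_ker J fun T x hx m => (hN' T x).1 hx m.toAdd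
    ((QuotientAddGroup.eq_zero_iff _).1 (DFunLike.congr_fun e11 _))

end Mono

section Max

variable {S S' : Scheme.{u}} (f : S' ⟶ S)

/-- The base change of a maximal split torus of a fibre: comparison with `D(ℤ^r)`. -/
lemma exists_compare {T₀ G₀ : Over S'} [GrpObj T₀] [GrpObj G₀] (σ₀ : T₀ ⟶ G₀) [IsMonHom σ₀]
    [Mono σ₀] {M : Type} [AddCommGroup M] (h : Red.IsSplitTorusWith M T₀) :
    ∃ e : Red.bc f (Red.DS S M) ≅ T₀, IsMonHom e.hom ∧ IsMonHom (e.hom ≫ σ₀) ∧
      Mono (e.hom ≫ σ₀) := by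
  obtain ⟨e⟩ := h
  let E : Grp.mk (Red.bc f (Red.DS S M)) ≅ Grp.mk T₀ := TorusAlgClosed.dsBcIso f M ≪≫ e.symm
  let E' : Red.bc f (Red.DS S M) ≅ T₀ :=
    ⟨E.hom.hom.hom, E.inv.hom.hom, congrArg (fun k => k.hom.hom) E.hom_inv_id,
      congrArg (fun k => k.hom.hom) E.inv_hom_id⟩
  have h1 : IsMonHom E'.hom := E.hom.hom.isMonHom_hom
  exact ⟨E', h1, inferInstance, inferInstance⟩

/-- If a split subtorus `J` becomes maximal after base change to a local scheme, it is maximal. -/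
lemma maxSpl_of_bc {R k : Type u} [CommRing R] [CommRing k] [IsLocalRing k]
    (f : Spec (CommRingCat.of k) ⟶ Spec (CommRingCat.of R)) {r : ℕ}
    {G : Over (Spec (CommRingCat.of R))} [GrpObj G]
    (J : Red.DS (Spec (CommRingCat.of R)) (Fin r → ℤ) ⟶ G) [IsMonHom J] [Mono J]
    {T₀ : Over (Spec (CommRingCat.of k))} [GrpObj T₀] (σ₀ : T₀ ⟶ Red.bc f G) [IsMonHom σ₀]
    [Mono σ₀] (h : MaxSpl σ₀) (e : Red.bc f (Red.DS (Spec (CommRingCat.of R)) (Fin r → ℤ)) ≅ T₀)
    (he : e.hom ≫ σ₀ = (Over.pullback f).map J) : MaxSpl J := by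
  refine ⟨BorSpan613.isTorus_of_isSplitTorusWith (K19.SplitTor.isSplit_DS _ _),
    ⟨r, K19.SplitTor.isSplit_DS _ _⟩, ?_⟩
  intro T' _ σ' _ _ g hT' hr' hg
  obtain ⟨r', hr'⟩ := hr'
  have hgm : IsMonHom g := OppS172.isMonHom_of_comp g σ' (by rw [hg]; infer_instance)
  have hgmono : Mono g := by
    have : Mono (g ≫ σ') := by rw [hg]; infer_instance
    exact mono_of_mono g σ'
  have h1 : IsIso (e.inv ≫ (Over.pullback f).map g) := by
    refine h.2.2 (Red.bc f T') ((Over.pullback f).map σ') _ (TorusBc.isTorus_bc f hT')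
      ⟨r', TorusAlgClosed.isSplitTorusWith_bc f hr'⟩ ?_
    rw [Category.assoc, ← Functor.map_comp, hg, ← he, Iso.inv_hom_id_assoc]
  have h2 : IsIso ((Over.pullback f).map g) := IsIso.of_isIso_comp_left e.inv _
  have h4 : IsMonHom (asIso ((Over.pullback f).map g)).hom :=
    inferInstanceAs (IsMonHom ((Over.pullback f).map g))
  have h5 : IsMonHom (inv ((Over.pullback f).map g)) :=
    inferInstanceAs (IsMonHom (asIso ((Over.pullback f).map g)).inv)
  have h3 : r' ≤ r := K19.SplitTor.rank_le_of_mono_local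
    (T := Red.bc f T') (G := Red.bc f (Red.DS (Spec (CommRingCat.of R)) (Fin r → ℤ)))
    (TorusAlgClosed.isSplitTorusWith_bc f hr')
    (TorusAlgClosed.isSplitTorusWith_bc f (K19.SplitTor.isSplit_DS _ _))
    (inv ((Over.pullback f).map g))
  exact K19.SplitTor.isIso_of_mono g h3 (K19.SplitTor.isSplit_DS _ _) hr'

end Max

section Hens

variable {O : Type u} [CommRing O] [HenselianLocalRing O]
  {G : Over (Spec (CommRingCat.of O))} [GrpObj G]
  {T₀ : Over (Spec (CommRingCat.of (IsLocalRing.ResidueField O)))} [GrpObj T₀]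

/-- **Maximal split tori lift over a henselian local ring.** -/
theorem exists_lift_maxSpl (hG : Smooth G.hom) (hGa : IsAffineHom G.hom)
    (σ₀ : T₀ ⟶ Red.bc (cl O) G) [IsMonHom σ₀] [Mono σ₀] (h : MaxSpl σ₀) :
    ∃ (r : ℕ) (J : Red.DS (Spec (CommRingCat.of O)) (Fin r → ℤ) ⟶ G),
      IsMonHom J ∧ Mono J ∧ MaxSpl J ∧
        ∃ e : Red.bc (cl O) (Red.DS (Spec (CommRingCat.of O)) (Fin r → ℤ)) ≅ T₀,
          IsMonHom e.hom ∧ e.hom ≫ σ₀ = (Over.pullback (cl O)).map J := by
  obtain ⟨r, hr⟩ := h.2.1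
  obtain ⟨e, he, h1, h2⟩ := exists_compare (cl O) σ₀ hr
  obtain ⟨J, hJ, hJ'⟩ := CoLift.exists_hom_lift (T := Red.DS (Spec (CommRingCat.of O)) (Fin r → ℤ))
    (BorSpan613.isTorus_of_isSplitTorusWith (K19.SplitTor.isSplit_DS _ _)) hG hGa (e.hom ≫ σ₀)
  have hJm : Mono J := mono_of_bc (cl O) J (by rw [hJ']; exact h2)
  exact ⟨r, J, hJ, hJm, maxSpl_of_bc (cl O) J σ₀ h e hJ'.symm, e, he, hJ'.symm⟩

end Hens

end Groth.Agent.K547.LiftSpl
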