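import Groth.Agent.Par.K547.Triples

/-!
# Commuting split tori over a local ring; the closed fibre of a maximal split torus
-/

set_option autoImplicit false
set_option linter.unusedSectionVars false

universe u

open CategoryTheory CategoryTheory.Limits AlgebraicGeometry MonoidalCategory CartesianMonoidalCategory
  MonObj GrpObj

namespace Groth.Agent.K547.MaxBc

open Groth.Agent.Sga3B Groth.Agent.Sga3B.Parab Groth.Agent.Sga3B.Par Groth.Agent.Sga3B.DSPts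
open Groth.Agent.Sga3B.Parab.OrbM156 HensLift SplTor LiftSpl

section Local

variable {R : Type u} [CommRing R] [IsLocalRing R]
  {G T D : Over (Spec (CommRingCat.of R))} [GrpObj G] [GrpObj T] [GrpObj D]

/-- The centralizer of (a homomorphism from) a split torus over a local ring is a reductive closed
subgroup. -/
theorem exists_cent (hG : Red.IsReductive G) (σ : T ⟶ G) [IsMonHom σ]
    (hT : Red.IsTorus T) (hs : ∃ r : ℕ, Red.IsSplitTorusWith (Fin r → ℤ) T) :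
    ∃ (Z : Over (Spec (CommRingCat.of R))) (_ : GrpObj Z) (z : Z ⟶ G),
      Red.IsCentralizerOf σ z ∧ Red.IsReductive Z ∧ IsClosedImmersion z.left := by
  have hGa : IsAffineHom G.hom := hG.1
  have hGs : Smooth G.hom := hG.2.1
  obtain ⟨r, ⟨e⟩⟩ := hs
  obtain ⟨x, hx⟩ := exists_generic σ hT e
  obtain ⟨Z, _, z, hz, hzc⟩ := DynExist998.exists_isDynZ (lamN (e.inv.hom.hom ≫ σ) x)
  exact ⟨Z, inferInstance, z, ⟨hz.isMonHom, hz.mono, fun X g => (hz.iff_ptZ X g).trans (hx X g).symm⟩,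
    isReductive_of_isDynZ _ K3b143.dynK3 hG z hz, hzc⟩

/-- Two commuting split tori are contained in a torus. -/
theorem exists_common (hG : Red.IsReductive G) (σ : T ⟶ G) [IsMonHom σ] (κ : D ⟶ G) [IsMonHom κ]
    (hT : Red.IsTorus T) (hs : ∃ r : ℕ, Red.IsSplitTorusWith (Fin r → ℤ) T)
    (hD : Red.IsTorus D) (hd : ∃ r : ℕ, Red.IsSplitTorusWith (Fin r → ℤ) D)
    (hc : ∀ (X : Over (Spec (CommRingCat.of R))) (a : X ⟶ T) (b : X ⟶ D),
      (a ≫ σ) * (b ≫ κ) = (b ≫ κ) * (a ≫ σ)) :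
    ∃ (Tm : Over (Spec (CommRingCat.of R))) (_ : GrpObj Tm) (t : Tm ⟶ G) (f : T ⟶ Tm) (g : D ⟶ Tm),
      IsMonHom t ∧ Mono t ∧ Red.IsTorus Tm ∧ f ≫ t = σ ∧ g ≫ t = κ := by
  have hcT := MaxTorNear900.mul_comm_of_isTorus hT
  have hcD := MaxTorNear900.mul_comm_of_isTorus hD
  obtain ⟨Z, _, z, hz, hZr, -⟩ := exists_cent hG σ hT hs
  have hzm : IsMonHom z := hz.1
  have hzmono : Mono z := hz.2.1
  obtain ⟨κ₁, hκ₁⟩ := (hz.2.2 D κ).2 fun X' y h => (hc X' h y).symm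
  have hκ₁m : IsMonHom κ₁ := OppS172.isMonHom_of_comp κ₁ z (by rw [hκ₁]; infer_instance)
  obtain ⟨σ₁, hσ₁⟩ := (hz.2.2 T σ).2 fun X' y h => by
    rw [← MonObj.mul_comp, ← MonObj.mul_comp, hcT]
  obtain ⟨Y, _, w, hw, hYr, -⟩ := exists_cent hZr κ₁ hD hd
  have hwm : IsMonHom w := hw.1
  have hwmono : Mono w := hw.2.1
  obtain ⟨κ₂, hκ₂⟩ := (hw.2.2 D κ₁).2 fun X' y h => by
    rw [← MonObj.mul_comp, ← MonObj.mul_comp, hcD]
  obtain ⟨σ₂, hσ₂⟩ := (hw.2.2 T σ₁).2 fun X' y h => by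
    rw [← cancel_mono z, MonObj.mul_comp, MonObj.mul_comp]
    have := hc X' y h
    simp only [Category.assoc]
    rw [hσ₁, hκ₁]
    exact this
  obtain ⟨Tm, _, t, ht, ht'⟩ := Groth.Agent.S2995.result (A := R) finite_maximal Y Y hYr (𝟙 Y)
    (isParabolic_id hYr)
  rw [Category.comp_id] at ht'
  have hself := TorClosed636.isCentralizerOf_self hYr ht'
  obtain ⟨f, hf⟩ := (hself.2.2 T σ₂).2 fun X' y h => by
    have h1 := (hz.2.2 Y (w ≫ z)).1 ⟨w, rfl⟩ X' (h ≫ t) y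
    rw [← cancel_mono w, ← cancel_mono z, MonObj.mul_comp, MonObj.mul_comp, MonObj.mul_comp,
      MonObj.mul_comp]
    simp only [Category.assoc] at h1 ⊢
    rw [← Category.assoc σ₂, hσ₂, hσ₁]
    exact h1.symm
  obtain ⟨g, hg⟩ := (hself.2.2 D κ₂).2 fun X' y h => by
    have h1 := (hw.2.2 Y w).1 ⟨𝟙 _, Category.id_comp _⟩ X' (h ≫ t) y
    rw [← cancel_mono w, MonObj.mul_comp, MonObj.mul_comp]
    simp only [Category.assoc] at h1 ⊢
    rw [hκ₂]
    exact h1.symm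
  have htmono : Mono t := ht'.2.1
  refine ⟨Tm, inferInstance, t ≫ w ≫ z, f, g, inferInstance, inferInstance, ht'.2.2.1, ?_, ?_⟩
  · rw [← Category.assoc, hf, ← Category.assoc, hσ₂, hσ₁]
  · rw [← Category.assoc, hg, ← Category.assoc, hκ₂, hκ₁]

/-- **A homomorphism from a split torus commuting with a maximal split torus `T` factors through
`T`**, over a local ring. -/
theorem exists_factor (hG : Red.IsReductive G) (σ : T ⟶ G) [IsMonHom σ] [Mono σ] (hT : MaxSpl σ)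
    (κ : D ⟶ G) [IsMonHom κ] (hD : Red.IsTorus D)
    (hd : ∃ r : ℕ, Red.IsSplitTorusWith (Fin r → ℤ) D)
    (hc : ∀ (X : Over (Spec (CommRingCat.of R))) (a : X ⟶ T) (b : X ⟶ D),
      (a ≫ σ) * (b ≫ κ) = (b ≫ κ) * (a ≫ σ)) : ∃ g : D ⟶ T, g ≫ σ = κ := by
  have hne := connectedSpace_local R
  obtain ⟨Tm, _, t, f, g, htm, htmono, hTm, hf, hg⟩ := exists_common hG σ κ hT.1 hT.2.1 hD hd hc
  have hfm : IsMonHom f := OppS172.isMonHom_of_comp f t (by rw [hf]; infer_instance)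
  have hgm : IsMonHom g := OppS172.isMonHom_of_comp g t (by rw [hg]; infer_instance)
  obtain ⟨r, j, hj, hjm, hjg⟩ := K19.SplitTor.exists_greatest hTm
  obtain ⟨n, hn⟩ := hT.2.1
  obtain ⟨m, hm⟩ := hd
  obtain ⟨f', hf'⟩ := hjg T f n hn
  obtain ⟨g', hg'⟩ := hjg D g m hm
  have hσ : f' ≫ (j ≫ t) = σ := by rw [← Category.assoc, hf', hf]
  have hiso : IsIso f' := hT.2.2 _ (j ≫ t) f'
    (BorSpan613.isTorus_of_isSplitTorusWith (K19.SplitTor.isSplit_DS _ _))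
    ⟨r, K19.SplitTor.isSplit_DS _ _⟩ hσ
  refine ⟨g' ≫ inv f', ?_⟩
  rw [← hσ, Category.assoc, IsIso.inv_hom_id_assoc, ← Category.assoc, hg', hg]

end Local

section Bc

variable {S S' : Scheme.{u}} (f : S' ⟶ S) {G T Z : Over S} [GrpObj G] [GrpObj T] [GrpObj Z]

/-- Commutation of a torus of the base change with the centralised torus. -/
lemma ptZ_of_factor (σ : T ⟶ G) {T₀ : Over S'} [GrpObj T₀] (hT₀ : Red.IsTorus T₀)
    (σ₀ : T₀ ⟶ Red.bc f G) [IsMonHom σ₀] (g : Red.bc f T ⟶ T₀)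
    (hg : g ≫ σ₀ = (Over.pullback f).map σ) (c : Red.Gm S ⟶ T) : PtZ (bcLam (c ≫ σ) f) σ₀ := by
  have hcT := MaxTorNear900.mul_comm_of_isTorus hT₀
  rw [DynExist998.ptZ_iff_centralizes]
  intro X' y h
  have h1 : bcLam (c ≫ σ) f = (bcLam c f ≫ g) ≫ σ₀ := by
    rw [bcLam_comp, ← hg, Category.assoc]
  rw [h1, ← Category.assoc, ← MonObj.mul_comp, ← MonObj.mul_comp, hcT]

end Bc

section Hens

variable {O : Type u} [CommRing O] [HenselianLocalRing O]
  {G T : Over (Spec (CommRingCat.of O))} [GrpObj G] [GrpObj T]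

/-- **The closed fibre of a maximal split torus is maximal**, over a henselian local ring. -/
theorem maxSpl_closedFibre (hG : Red.IsReductive G) (σ : T ⟶ G) [IsMonHom σ] [Mono σ]
    (hT : MaxSpl σ) : MaxSpl ((Over.pullback (cl O)).map σ) := by
  have hGa : IsAffineHom G.hom := hG.1
  have hGs : Smooth G.hom := hG.2.1
  obtain ⟨n, hn⟩ := hT.2.1
  refine ⟨TorusBc.isTorus_bc (cl O) hT.1, ⟨n, TorusAlgClosed.isSplitTorusWith_bc (cl O) hn⟩, ?_⟩
  intro T₀ _ σ₀ _ _ g hT₀ hs₀ hg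
  obtain ⟨e⟩ := hn
  obtain ⟨x, hx⟩ := exists_generic σ hT.1 e
  obtain ⟨Z, _, z, hz, hzc⟩ := DynExist998.exists_isDynZ (lamN (e.inv.hom.hom ≫ σ) x)
  have hzm : IsMonHom z := hz.isMonHom
  have hzmono : Mono z := hz.mono
  have hlam : lamN (e.inv.hom.hom ≫ σ) x = (lamN e.inv.hom.hom x) ≫ σ := by
    rw [lamN, lamN, Category.assoc]
  obtain ⟨j₀, hj₀⟩ := ((hz.bc (cl O)).iff_ptZ T₀ σ₀).2 (by
    rw [hlam]
    exact ptZ_of_factor (cl O) σ hT₀ σ₀ g hg _)
  have hzbm : IsMonHom ((Over.pullback (cl O)).map z) := inferInstance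
  have hj₀m : IsMonHom j₀ := OppS172.isMonHom_of_comp j₀ ((Over.pullback (cl O)).map z)
    (by rw [hj₀]; infer_instance)
  have hj₀mono : Mono j₀ := by
    have : Mono (j₀ ≫ (Over.pullback (cl O)).map z) := by rw [hj₀]; infer_instance
    exact mono_of_mono j₀ ((Over.pullback (cl O)).map z)
  obtain ⟨m, hm⟩ := hs₀
  obtain ⟨E, hE, h1, h2⟩ := exists_compare (cl O) j₀ hm
  obtain ⟨J, hJ, hJ'⟩ := CoLift.exists_hom_lift (T := Red.DS (Spec (CommRingCat.of O)) (Fin m → ℤ))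
    (G := Z) (BorSpan613.isTorus_of_isSplitTorusWith (K19.SplitTor.isSplit_DS _ _)) hz.smooth
    (OppS172.isAffineHom_of_closed z hzc hGa) (E.hom ≫ j₀)
  obtain ⟨q, hq⟩ := exists_factor hG σ hT (J ≫ z)
    (BorSpan613.isTorus_of_isSplitTorusWith (K19.SplitTor.isSplit_DS _ _))
    ⟨m, K19.SplitTor.isSplit_DS _ _⟩ (by
      intro X a b
      have h3 := (hx _ (J ≫ z)).2 ((hz.iff_ptZ _ _).1 ⟨J, rfl⟩) X b a
      exact h3.symm)
  have h4 : (E.inv ≫ (Over.pullback (cl O)).map q) ≫ (Over.pullback (cl O)).map σ = σ₀ := by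
    rw [Category.assoc, ← Functor.map_comp, hq, Functor.map_comp, hJ', Category.assoc,
      Iso.inv_hom_id_assoc, hj₀]
  have hσmono : Mono ((Over.pullback (cl O)).map σ) := inferInstance
  refine ⟨E.inv ≫ (Over.pullback (cl O)).map q, ?_, ?_⟩
  · rw [← cancel_mono ((Over.pullback (cl O)).map σ), Category.assoc, h4, hg, Category.id_comp]
  · rw [← cancel_mono σ₀, Category.assoc, hg, h4, Category.id_comp]

end Hens

end Groth.Agent.K547.MaxBc
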