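import Groth.Agent.LieWt.K929.ActSub
import Groth.Agent.LieWt.K929.ActInf
import Groth.Agent.Sga3B.Parab.OrbPar156

/-!
# Extension of orbits of `D(M)` and weights, in a chart

`J : D(M) ⟶ G` over an affine base, `c` a chart of `G`; `actG c J` the conjugation action of `D(M)` on the points of
`G`. A point `g` satisfies `QT T` (its orbit extends to `Spec C[T]`) iff it kills the homogeneous functions of
degree outside `T`.
-/

set_option autoImplicit false
set_option linter.unusedSectionVars false
universe u

open CategoryTheory MonoidalCategory CartesianMonoidalCategory MonObj GrpObj AlgebraicGeometry Limits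

namespace Groth.Agent.K547.QtTact

open Groth.Agent.Sga3B Cell PinMod DSPts GaPts K929.LieDict K929.LieSplit K929.Act K929.ChartUni K929.ActSub
open Groth.Agent.Sga3B.Parab Groth.Agent.Sga3B.Parab.OrbM156 RootCoact

variable {R : Type u} [CommRing R] {G : Over (Spec (CommRingCat.of R))} [GrpObj G]
  (c : Chart G (𝟙 (Spec (CommRingCat.of R)))) {M : Type} [AddCommGroup M]
  (J : Red.DS (Spec (CommRingCat.of R)) M ⟶ G) [IsMonHom J]
variable {B C : Type u} [CommRing B] [Algebra R B] [CommRing C] [Algebra R C]

/-- The conjugation action of `D(M)` on the points of `G`. -/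
noncomputable def actN : Nrm R c.A c.A M :=
  nrm c c (𝟙 G) J fun _ t x => ⟨(t ≫ J) * (x ≫ 𝟙 G) * (t ≫ J)⁻¹, (Category.comp_id _).symm⟩

/-- The conjugation action of `D(M)` on the points of `G`. -/
noncomputable def actG : TAct R c.A M := (actN c J).tact

lemma isAut_actG : (actG c J).IsAut := (actN c J).isAut

lemma emb_id (g : Pt R c.A B) : emb c c (𝟙 G) B g = g := by
  apply (c.pts B).injective
  rw [pts_emb, Category.comp_id]

lemma actN_emb : (actN c J).emb B = emb c c (𝟙 G) B := rfl

lemma actN_ti : (actN c J).ti B = tiPt c J B := rfl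

lemma actG_act_def (t : TPt M B) (g : Pt R c.A B) : (actG c J).act t g = (actN c J).act t g := rfl

lemma actG_act (t : TPt M B) (g : Pt R c.A B) :
    (actG c J).act t g = tiPt c J B t * g * (tiPt c J B t)⁻¹ := by
  have h := (actN c J).emb_act t g
  rw [actN_emb, actN_ti, emb_id, emb_id] at h
  rw [actG_act_def, h]

lemma str_monoidAlgebra (N : Type) [CommMonoid N] (B : Type u) [CommRing B] [Algebra R B] :
    𝟙 (Spec (CommRingCat.of (MonoidAlgebra B N))) ≫
      (Spec.map (CommRingCat.ofHom (algebraMap B (MonoidAlgebra B N))) ≫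
        Spec.map (CommRingCat.ofHom (algebraMap R B)) ≫ 𝟙 (Spec (CommRingCat.of R))) =
      Spec.map (CommRingCat.ofHom (algebraMap R (MonoidAlgebra B N))) ≫ 𝟙 (Spec (CommRingCat.of R)) := by
  rw [Category.id_comp]
  exact (hcN rfl N).symm

/-- `Spec B[N]` in the two forms. -/
noncomputable def castN (N : Type) [CommMonoid N] (B : Type u) [CommRing B] [Algebra R B] :
    tB (𝟙 (Spec (CommRingCat.of R))) (MonoidAlgebra B N) ≅
      mon N B (Spec.map (CommRingCat.ofHom (algebraMap R B)) ≫ 𝟙 (Spec (CommRingCat.of R))) :=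
  Over.isoMk (Iso.refl (Spec (CommRingCat.of (MonoidAlgebra B N)))) (str_monoidAlgebra N B)

lemma castN_hom_left (N : Type) [CommMonoid N] :
    (castN (R := R) N B).hom.left = 𝟙 (Spec (CommRingCat.of (MonoidAlgebra B N))) := rfl

lemma castN_mPr (N : Type) [CommMonoid N] : (castN (R := R) N B).hom ≫ mPr N B _ =
    tMap (𝟙 _) (IsScalarTower.toAlgHom R B (MonoidAlgebra B N)) := by
  ext1
  exact Category.id_comp (Spec.map (CommRingCat.ofHom (algebraMap B (MonoidAlgebra B N))))

lemma incl_coe (T : Submonoid (Multiplicative M)) : (incl B B T).toRingHom =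
    (incl R B T : MonoidAlgebra B T →+* MonoidAlgebra B (Multiplicative M)) := rfl

lemma castN_toT_left (T : Submonoid (Multiplicative M)) :
    ((castN (R := R) (Multiplicative M) B).hom ≫ toT B _ T).left =
      Spec.map (CommRingCat.ofHom (incl B B T).toRingHom) :=
  Category.id_comp (Spec.map (CommRingCat.ofHom (incl B B T).toRingHom))

lemma tMap_castN_left (T : Submonoid (Multiplicative M)) :
    (tMap (𝟙 _) (incl R B T) ≫ (castN (R := R) T B).hom).left =
      Spec.map (CommRingCat.ofHom (incl R B T : MonoidAlgebra B T →+* MonoidAlgebra B (Multiplicative M))) :=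
  Category.comp_id (Spec.map (CommRingCat.ofHom
    (incl R B T : MonoidAlgebra B T →+* MonoidAlgebra B (Multiplicative M))))

lemma castN_toT (T : Submonoid (Multiplicative M)) :
    (castN (R := R) (Multiplicative M) B).hom ≫ toT B _ T =
      tMap (𝟙 _) (incl R B T) ≫ (castN (R := R) T B).hom :=
  Over.OverMorphism.ext ((castN_toT_left T).trans
    ((congrArg (fun k => Spec.map (CommRingCat.ofHom k)) (incl_coe (R := R) T)).trans
      (tMap_castN_left T).symm))

lemma castN_mPt : (castN (R := R) (Multiplicative M) B).hom ≫ mPt B _ =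
    dsEquiv (tB (𝟙 _) (MA M B)) M (chΓ (𝟙 _) (uT M B)) := by
  rw [mPt, dsEquiv_naturality]
  congr 1

/-- The orbits in the two forms. -/
lemma castN_orbM (g : Pt R c.A B) :
    (castN (R := R) (Multiplicative M) B).hom ≫ orbM J (c.pts B g) =
      c.pts (MA M B) ((actG c J).orb g) := by
  rw [orbM, MonObj.comp_mul, MonObj.comp_mul, GrpObj.comp_inv, ← Category.assoc, castN_mPt,
    ← Category.assoc, castN_mPr, TAct.orb, actG_act, _root_.map_mul, _root_.map_mul, _root_.map_inv,
    pts_tiPt, c.pts_nat]
  rfl

lemma qt_iff_exists (T : Submonoid (Multiplicative M)) (g : Pt R c.A B) :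
    QT J B _ T (c.pts B g) ↔
      ∃ h : Pt R c.A (MonoidAlgebra B T), Pt.map (incl R B T) h = (actG c J).orb g := by
  constructor
  · rintro ⟨h, hh⟩
    refine ⟨(c.pts _).symm ((castN T B).hom ≫ h), ?_⟩
    apply (c.pts _).injective
    rw [← c.pts_nat, MulEquiv.apply_symm_apply, ← castN_orbM, ← hh, ← Category.assoc,
      ← Category.assoc, castN_toT]
  · rintro ⟨h, hh⟩
    refine ⟨(castN T B).inv ≫ c.pts _ h, ?_⟩
    rw [← cancel_epi (castN (R := R) (Multiplicative M) B).hom, castN_orbM, ← hh, ← c.pts_nat,
      ← Category.assoc, ← Category.assoc, castN_toT, Category.assoc (tMap _ _), Iso.hom_inv_id,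
      Category.comp_id]

lemma orb_of_mem (g : Pt R c.A B) {m : M} {a : c.A} (ha : a ∈ gr (actG c J).coact m) :
    ((actG c J).orb g).hom a = MonoidAlgebra.single (Multiplicative.ofAdd m) (g.hom a) := by
  have h1 : (actG c J).rho a = MonoidAlgebra.single (Multiplicative.ofAdd m) a := ha
  rw [TAct.orb_hom_apply, h1, mM_single]

/-- **The condition `QT` in a chart.** -/
theorem qt_iff (T : Submonoid (Multiplicative M)) (g : Pt R c.A B) :
    QT J B _ T (c.pts B g) ↔
      ∀ m : M, Multiplicative.ofAdd m ∉ T → ∀ a ∈ gr (actG c J).coact m, g.hom a = 0 := by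
  rw [qt_iff_exists]
  constructor
  · rintro ⟨h, hh⟩ m hm a ha
    have h1 := orb_of_mem c J g ha
    rw [← hh] at h1
    have h2 := coeff_incl (R := R) T (h.hom a) hm
    change incl R B T (h.hom a) = _ at h1
    rw [h1, MonoidAlgebra.coeff_single, Finsupp.single_eq_same] at h2
    exact h2
  · intro H
    have h1 : ∀ a, ((actG c J).orb g).hom a ∈ (incl R B T).range := by
      intro a
      refine induction_gr (p := fun a => ((actG c J).orb g).hom a ∈ (incl R B T).range)
        (actG c J).coact ?_ ?_ ?_ a
      · rw [_root_.map_zero]; exact zero_mem _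
      · intro a b ha hb
        rw [_root_.map_add]
        exact add_mem ha hb
      · intro m a ha
        rw [orb_of_mem c J g ha]
        by_cases hm : Multiplicative.ofAdd m ∈ T
        · refine ⟨MonoidAlgebra.single ⟨Multiplicative.ofAdd m, hm⟩ (g.hom a), ?_⟩
          change MonoidAlgebra.mapDomain _ (MonoidAlgebra.single _ _) = _
          rw [MonoidAlgebra.mapDomain_single]
          rfl
        · rw [H m hm a ha, MonoidAlgebra.single_zero]
          exact zero_mem _
    refine ⟨Pt.mk (((AlgEquiv.ofInjective (incl R B T) (incl_injective T)).symm : _ →ₐ[R] _).comp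
      ((((actG c J).orb g).hom).codRestrict _ h1)), ?_⟩
    apply Pt.ext
    intro a
    change (incl R B T) ((AlgEquiv.ofInjective (incl R B T) (incl_injective T)).symm
      ⟨((actG c J).orb g).hom a, h1 a⟩) = _
    exact congrArg Subtype.val ((AlgEquiv.ofInjective (incl R B T) (incl_injective T)).apply_symm_apply
      ⟨((actG c J).orb g).hom a, h1 a⟩)

end Groth.Agent.K547.QtTact
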