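import Groth.Agent.Par.K547.DynTools
import Groth.Agent.Sga3B.Parab.SplitLevi156
import Groth.Agent.Sga3B.Parab.TorRank156
import Groth.Agent.Sga3B.Parab.OrbPar156
import Groth.Agent.Sga3B.TorClosed636
import Groth.Agent.Sga3B.MT.Levi
import Groth.Agent.S2995
import Groth.Agent.S3974
import Groth.Agent.S4120
import Groth.Agent.SGA3x.K19.SplitTor

/-!
# Centralizers of split tori over a local ring, maximal split tori and Levi subgroups
-/

set_option autoImplicit false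
set_option linter.unusedSectionVars false

universe u

open CategoryTheory CategoryTheory.Limits AlgebraicGeometry MonoidalCategory CartesianMonoidalCategory
  MonObj GrpObj

namespace Groth.Agent.K547.SplTor

open Groth.Agent.Sga3B Groth.Agent.Sga3B.Parab Groth.Agent.Sga3B.Par
open Groth.Agent.Sga3B.Parab.OrbM156

lemma connectedSpace_local (R : Type u) [CommRing R] [IsLocalRing R] :
    ConnectedSpace (Spec (CommRingCat.of R)) := by
  have h1 : PreconnectedSpace (Spec (CommRingCat.of R)) :=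
    ⟨isPreconnected_of_forall (IsLocalRing.closedPoint R) fun y _ => ⟨closure {y},
      Set.subset_univ _, (IsLocalRing.specializes_closedPoint y).mem_closure,
      subset_closure rfl, isPreconnected_singleton.closure⟩⟩
  exact { toNonempty := ⟨IsLocalRing.closedPoint R⟩ }

section Generic

variable {R : Type u} [CommRing R] [IsLocalRing R]
  {G T Z : Over (Spec (CommRingCat.of R))} [GrpObj G] [GrpObj T] [GrpObj Z]

/-- **The centralizer of a split torus over a local ring is the centralizer of a cocharacter.** -/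
theorem exists_generic [IsAffineHom G.hom] [LocallyOfFiniteType G.hom]
    (σ : T ⟶ G) [IsMonHom σ] (hT : Red.IsTorus T) {M : Type} [AddCommGroup M]
    (e : Grp.mk T ≅ Grp.mk (Red.DS (Spec (CommRingCat.of R)) M)) :
    ∃ x : M →+ ℤ, ∀ (X : Over (Spec (CommRingCat.of R))) (g : X ⟶ G),
      (∀ (X' : Over _) (y : X' ⟶ X) (h : X' ⟶ T), (y ≫ g) * (h ≫ σ) = (h ≫ σ) * (y ≫ g)) ↔
        PtZ (lamN (e.inv.hom.hom ≫ σ) x) g := by
  have hne : Nonempty (Spec (CommRingCat.of R)) := ⟨IsLocalRing.closedPoint R⟩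
  obtain ⟨N, hN⟩ := TorRank156.hasCone hT ⟨e⟩
  have hJ : IsMonHom (e.inv.hom.hom ≫ σ) := inferInstance
  obtain ⟨V, hV, x, hx⟩ := exists_nu (J := e.inv.hom.hom ≫ σ) hN (IsLocalRing.closedPoint R)
  refine ⟨x, fun X g => ?_⟩
  rw [commutes_iff e σ g, commutes_iff_ptT]
  refine (hx X ?_ g).2
  rintro y -
  exact (IsLocalRing.specializes_closedPoint y).mem_open V.2 hV

end Generic

section Triv

variable {S : Scheme.{u}} {G : Over S} [GrpObj G]

/-- Every point is centralised by the trivial cocharacter. -/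
lemma ptZ_one {X : Over S} (g : X ⟶ G) : PtZ (1 : Red.Gm S ⟶ G) g := by
  intro C _ c x
  rw [OrbConst, orb, MonObj.comp_one, _root_.one_mul, inv_one, _root_.mul_one]

theorem isDynP_one : IsDynP (1 : Red.Gm S ⟶ G) (𝟙 G) where
  isMonHom := inferInstance
  mono := inferInstance
  iff_ptP _ g := ⟨fun _ => (ptZ_one g).ptP, fun _ => ⟨g, Category.comp_id g⟩⟩

/-- A reductive group is a parabolic subgroup of itself. -/
theorem isParabolic_id (hG : Red.IsReductive G) : Red.IsParabolic (𝟙 G) := by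
  have : IsMonHom (1 : Red.Gm S ⟶ G) := by
    change IsMonHom (toUnit (Red.Gm S) ≫ η[G])
    infer_instance
  exact DynTools.isParabolic_of_isDynP 1 hG isDynP_one

end Triv

section Cent

variable {R : Type u} [CommRing R] [IsLocalRing R]
  {G T Z P : Over (Spec (CommRingCat.of R))} [GrpObj G] [GrpObj T] [GrpObj Z] [GrpObj P]

lemma finite_maximal : {m : Ideal R | m.IsMaximal}.Finite := by
  have : {m : Ideal R | m.IsMaximal} = {IsLocalRing.maximalIdeal R} := by
    ext m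
    exact ⟨fun h => IsLocalRing.eq_maximalIdeal h, fun h => by
      rw [Set.mem_singleton_iff] at h
      subst h
      exact IsLocalRing.maximalIdeal.isMaximal R⟩
  rw [this]
  exact Set.finite_singleton _

/-- The centralizer `Z` of a split torus `T` of a reductive group over a local ring is the centralizer
of a cocharacter of `T`; it is reductive and contains a maximal torus of `G` containing `T`. -/
theorem exists_maxTorus (hG : Red.IsReductive G) (σ : T ⟶ G) [IsMonHom σ] [Mono σ]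
    (hT : Red.IsTorus T) (hs : ∃ r : ℕ, Red.IsSplitTorusWith (Fin r → ℤ) T)
    (z : Z ⟶ G) (hZ : Red.IsCentralizerOf σ z) :
    Red.IsReductive Z ∧ IsClosedImmersion z.left ∧
      ∃ (Tm : Over (Spec (CommRingCat.of R))) (_ : GrpObj Tm) (t : Tm ⟶ Z) (f : T ⟶ Tm),
        IsMonHom t ∧ Red.IsMaximalTorus (t ≫ z) ∧ f ≫ t ≫ z = σ := by
  have hGa : IsAffineHom G.hom := hG.1
  have hGs : Smooth G.hom := hG.2.1
  obtain ⟨r, ⟨e⟩⟩ := hs
  obtain ⟨x, hx⟩ := exists_generic σ hT e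
  have hJ : IsMonHom (e.inv.hom.hom ≫ σ) := inferInstance
  have hlam : IsMonHom (lamN (e.inv.hom.hom ≫ σ) x) := inferInstance
  have hz : IsDynZ (lamN (e.inv.hom.hom ≫ σ) x) z :=
    ⟨hZ.1, hZ.2.1, fun X g => (hZ.2.2 X g).trans (hx X g)⟩
  have hzm : IsMonHom z := hZ.1
  have hzmono : Mono z := hZ.2.1
  have hZr : Red.IsReductive Z := isReductive_of_isDynZ _ K3b143.dynK3 hG z hz
  refine ⟨hZr, hz.isClosedImmersion, ?_⟩
  obtain ⟨Tm, _, t, ht, ht'⟩ := Groth.Agent.S2995.result (A := R) finite_maximal Z Z hZr (𝟙 Z)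
    (isParabolic_id hZr)
  rw [Category.comp_id] at ht'
  have hcomm := MaxTorNear900.mul_comm_of_isTorus hT
  obtain ⟨j, hj⟩ := (hZ.2.2 T σ).2 (by
    intro X x h
    rw [← MonObj.mul_comp, ← MonObj.mul_comp, hcomm])
  have hjm : IsMonHom j := OppS172.isMonHom_of_comp j z (by rw [hj]; infer_instance)
  have hjmono : Mono j := by
    have : Mono (j ≫ z) := by rw [hj]; infer_instance
    exact mono_of_mono j z
  have hZa : IsAffineHom Z.hom := hZr.1
  have hZs : Smooth Z.hom := hZr.2.1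
  obtain ⟨f, hf⟩ := Groth.Agent.S4120.result _ Z Tm T t j ht' hT (by
    intro X a b
    rw [← cancel_mono z, MonObj.mul_comp, MonObj.mul_comp]
    have h1 := (hZ.2.2 Z z).1 ⟨𝟙 _, Category.id_comp _⟩ X (a ≫ t) b
    simp only [Category.assoc] at h1 ⊢
    rw [hj]
    exact h1)
  obtain ⟨P, _, p, hp, hpar⟩ := DynTools.exists_isDynP (lamN (e.inv.hom.hom ≫ σ) x) hG
  obtain ⟨zP, hzP⟩ := DynLevi998.exists_zP hp hz
  have hL : Par.IsLevi zP := DynTools.isLevi_of_isDynZ _ hG hp (by rw [hzP]; exact hz)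
  have h2 := MT.Levi.isMaximalTorus_comp_levi hG p hpar zP hL t ht'
  rw [hzP] at h2
  exact ⟨Tm, inferInstance, t, f, ht, h2, by rw [← Category.assoc, hf, hj]⟩

/-- **A parabolic subgroup containing the centralizer of a split torus has exactly one Levi
subgroup containing this centralizer**, over a local ring. -/
theorem exists_levi (hG : Red.IsReductive G) (σ : T ⟶ G) [IsMonHom σ] [Mono σ]
    (hT : Red.IsTorus T) (hs : ∃ r : ℕ, Red.IsSplitTorusWith (Fin r → ℤ) T)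
    (z : Z ⟶ G) (hZ : Red.IsCentralizerOf σ z) (p : P ⟶ G) (hp : Red.IsParabolic p)
    (zP : Z ⟶ P) (hzP : zP ≫ p = z) :
    ∃ (L : Over (Spec (CommRingCat.of R))) (_ : GrpObj L) (l : L ⟶ P) (zL : Z ⟶ L),
      Par.IsLevi l ∧ zL ≫ l = zP ∧
      (∀ (L₂ : Over (Spec (CommRingCat.of R))) [GrpObj L₂] (l₂ : L₂ ⟶ P) (zL₂ : Z ⟶ L₂),
        Par.IsLevi l₂ → zL₂ ≫ l₂ = zP → ∃ e : L ≅ L₂, e.hom ≫ l₂ = l) ∧
      ∃ (Tm : Over (Spec (CommRingCat.of R))) (_ : GrpObj Tm) (t : Tm ⟶ Z) (f : T ⟶ Tm),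
        IsMonHom t ∧ Red.IsMaximalTorus (t ≫ z) ∧ f ≫ t ≫ z = σ := by
  obtain ⟨hZr, hzc, Tm, _, t, f, ht, ht', hf⟩ := exists_maxTorus hG σ hT hs z hZ
  have hpm : IsMonHom p := hp.1
  have hpc : IsClosedImmersion p.left := hp.2.1
  have hpmono : Mono p := Over.mono_of_mono_left p
  have hzm : IsMonHom z := hZ.1
  have hzPm : IsMonHom zP := OppS172.isMonHom_of_comp zP p (by rw [hzP]; infer_instance)
  have hzPc : IsClosedImmersion zP.left := by
    have h8 : IsClosedImmersion (zP.left ≫ p.left) := by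
      rw [← Over.comp_left, hzP]
      exact hzc
    exact .of_comp zP.left p.left
  obtain ⟨L, _, l, tl, hl, htl, huniv, huniq⟩ := Groth.Agent.S3974.result hG p hp (t ≫ zP) (by
    rw [Category.assoc, hzP]; exact ht')
  obtain ⟨zL, hzL⟩ := huniv Z zP t ⟨hzPm, inferInstance⟩ hZr rfl
  refine ⟨L, inferInstance, l, zL, hl, hzL, ?_, Tm, inferInstance, t, f, ht, ht', hf⟩
  intro L₂ _ l₂ zL₂ hl₂ hzL₂
  obtain ⟨e, he⟩ := huniq L₂ l₂ (t ≫ zL₂) hl₂ (by rw [Category.assoc, hzL₂])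
  exact ⟨e.symm, by rw [Iso.symm_hom, ← he, Iso.inv_hom_id_assoc]⟩

/-- `σ : T ⟶ G` is a maximal split torus. -/
def MaxSpl {S : Scheme.{u}} {G T : Over S} [GrpObj G] [GrpObj T] (σ : T ⟶ G) : Prop :=
  Red.IsTorus T ∧ (∃ r : ℕ, Red.IsSplitTorusWith (Fin r → ℤ) T) ∧
    (∀ (T' : Over S) [GrpObj T'] (σ' : T' ⟶ G) [IsMonHom σ'] [Mono σ'] (f : T ⟶ T'),
      Red.IsTorus T' → (∃ r : ℕ, Red.IsSplitTorusWith (Fin r → ℤ) T') → f ≫ σ' = σ → IsIso f)

/-- **A parabolic subgroup containing the centralizer of a maximal split torus `T` is `P_G(λ)` for a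
cocharacter `λ` of `T`**, over a local ring. -/
theorem exists_cochar (hG : Red.IsReductive G) (σ : T ⟶ G) [IsMonHom σ] [Mono σ]
    (hT : MaxSpl σ) (z : Z ⟶ G) (hZ : Red.IsCentralizerOf σ z) (p : P ⟶ G)
    (hp : Red.IsParabolic p) (zP : Z ⟶ P) (hzP : zP ≫ p = z) :
    ∃ c : Red.Gm (Spec (CommRingCat.of R)) ⟶ T, IsMonHom c ∧ IsDynP (c ≫ σ) p := by
  have hne := connectedSpace_local R
  obtain ⟨L, _, l, zL, hl, hzL, -, Tm, _, t, f, ht, ht', hf⟩ :=
    exists_levi hG σ hT.1 hT.2.1 z hZ p hp zP hzP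
  obtain ⟨lam, hlam, hlp, hlz⟩ := RedSub.H663.DynPair.exists_cochar_levi hG p hp l hl
  have hzm : IsMonHom z := hZ.1
  have hzmono : Mono z := hZ.2.1
  have htm : Mono (t ≫ z) := ht'.2.1
  obtain ⟨l₀, hl₀⟩ := ((TorClosed636.isCentralizerOf_self hG ht').2.2 _ lam).2 (by
    intro X' x h
    have h1 : PtZ lam (t ≫ z) := (hlz.iff_ptZ _ _).1
      ⟨t ≫ zL, by rw [← hzP, ← hzL]; simp only [Category.assoc]⟩
    exact ((DynExist998.ptZ_iff_centralizes (t ≫ z)).1 h1 X' h x).symm)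
  have hl₀m : IsMonHom l₀ := OppS172.isMonHom_of_comp l₀ (t ≫ z) (by rw [hl₀]; infer_instance)
  have hfm : IsMonHom f := OppS172.isMonHom_of_comp f (t ≫ z) (by rw [hf]; infer_instance)
  obtain ⟨r, j, hj, hjm, hjg⟩ := K19.SplitTor.exists_greatest ht'.2.2.1
  obtain ⟨n, hn⟩ := hT.2.1
  obtain ⟨g, hg⟩ := hjg T f n hn
  obtain ⟨E, -⟩ := BorSpan613.exists_iso_DS (Spec (CommRingCat.of R))
    (AddEquiv.piUnique (fun _ : Fin 1 => ℤ))
  obtain ⟨g', hg'⟩ := hjg (Red.Gm (Spec (CommRingCat.of R))) l₀ 1 ⟨E⟩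
  have hσ : g ≫ (j ≫ t ≫ z) = σ := by rw [← Category.assoc, hg, hf]
  have hiso : IsIso g := hT.2.2 _ (j ≫ t ≫ z) g
    (BorSpan613.isTorus_of_isSplitTorusWith (K19.SplitTor.isSplit_DS _ _))
    ⟨r, K19.SplitTor.isSplit_DS _ _⟩ hσ
  have hc : (g' ≫ inv g) ≫ σ = lam := by
    rw [← hσ, Category.assoc, IsIso.inv_hom_id_assoc, ← Category.assoc, hg', hl₀]
  exact ⟨g' ≫ inv g, OppS172.isMonHom_of_comp _ σ (by rw [hc]; exact hlam), by rw [hc]; exact hlp⟩

/-- The same statement with the torus `T` written as `D(M)`. -/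
theorem exists_lamN (hG : Red.IsReductive G) (σ : T ⟶ G) [IsMonHom σ] [Mono σ]
    (hT : MaxSpl σ) (z : Z ⟶ G) (hZ : Red.IsCentralizerOf σ z) (p : P ⟶ G)
    (hp : Red.IsParabolic p) (zP : Z ⟶ P) (hzP : zP ≫ p = z) {M : Type} [AddCommGroup M]
    (e : Grp.mk T ≅ Grp.mk (Red.DS (Spec (CommRingCat.of R)) M)) :
    ∃ x : M →+ ℤ, IsDynP (lamN (e.inv.hom.hom ≫ σ) x) p := by
  obtain ⟨c, hc, hP⟩ := exists_cochar hG σ hT z hZ p hp zP hzP
  obtain ⟨x, hx⟩ := DSRigid.exists_eq_DSmap (c ≫ e.hom.hom.hom)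
  refine ⟨x, ?_⟩
  have h1 : lamN (e.inv.hom.hom ≫ σ) x = c ≫ σ := by
    rw [lamN, ← hx]
    have h2 : e.hom.hom.hom ≫ e.inv.hom.hom = 𝟙 _ := congrArg (fun k => k.hom.hom) e.hom_inv_id
    simp only [Category.assoc]
    rw [← Category.assoc e.hom.hom.hom, h2, Category.id_comp]
  rw [h1]
  exact hP

end Cent

end Groth.Agent.K547.SplTor
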