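import Groth.Agent.Par.K547.LiftSpl

/-!
# Parabolic subgroups containing the centralizer of a maximal split torus over a henselian local ring
-/

set_option autoImplicit false
set_option linter.unusedSectionVars false

universe u

open CategoryTheory CategoryTheory.Limits AlgebraicGeometry MonoidalCategory CartesianMonoidalCategory
  MonObj GrpObj

namespace Groth.Agent.K547.Triples

open Groth.Agent.Sga3B Groth.Agent.Sga3B.Parab Groth.Agent.Sga3B.Par Groth.Agent.Sga3B.DSPts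
open Groth.Agent.Sga3B.Parab.OrbM156 HensLift SplTor LiftSpl HensMin
open Groth.Agent.RedSub.H664 Groth.Agent.RedSub.H664.Comb
open Groth.Agent.RedSub.H664.Calc3 Groth.Agent.RedSub.H664.Calc2 Groth.Agent.RedSub.H664.Min

section Gen

variable {S S' : Scheme.{u}} (f : S' ⟶ S) {G : Over S} [GrpObj G] {M : Type} [AddCommGroup M]

lemma bcLam_lamN (J : Red.DS S M ⟶ G) {T₀ : Over S'} (σ₀ : T₀ ⟶ Red.bc f G)
    (e : Red.bc f (Red.DS S M) ≅ T₀) (he : e.hom ≫ σ₀ = (Over.pullback f).map J) (x : M →+ ℤ) :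
    bcLam (lamN J x) f =
      lamN (((TorusAlgClosed.dsBcIso f M).inv.hom.hom ≫ e.hom) ≫ σ₀) x := by
  rw [lamN, lamN, bcLam_DSmap, ← he, Category.assoc]

lemma exists_grpIso {T₀ : Over S'} [GrpObj T₀] (e : Red.bc f (Red.DS S M) ≅ T₀) (h : IsMonHom e.hom) :
    ∃ E : Grp.mk T₀ ≅ Grp.mk (Red.DS S' M),
      E.inv.hom.hom = (TorusAlgClosed.dsBcIso f M).inv.hom.hom ≫ e.hom := by
  let e' : Grp.mk (Red.bc f (Red.DS S M)) ≅ Grp.mk T₀ := Grp.mkIso' e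
  exact ⟨e'.symm ≪≫ TorusAlgClosed.dsBcIso f M, rfl⟩

/-- Cocharacters of a split torus commute. -/
lemma comm_lamN (J : Red.DS S M ⟶ G) [IsMonHom J] (x y : M →+ ℤ) : Comm (lamN J x) (lamN J y) := by
  intro X s t
  have h1 : (s ≫ Red.DSmap S x) * (t ≫ Red.DSmap S y) = (t ≫ Red.DSmap S y) * (s ≫ Red.DSmap S x) := by
    apply (dsEquiv X M).symm.injective
    rw [map_mul, map_mul, mul_comm]
  have h2 : s ≫ lamN J x = (s ≫ Red.DSmap S x) ≫ J := (Category.assoc _ _ _).symm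
  have h3 : t ≫ lamN J y = (t ≫ Red.DSmap S y) ≫ J := (Category.assoc _ _ _).symm
  have h4 := MonObj.mul_comp (s ≫ Red.DSmap S x) (t ≫ Red.DSmap S y) J
  have h5 := MonObj.mul_comp (t ≫ Red.DSmap S y) (s ≫ Red.DSmap S x) J
  rw [h2, h3, ← h4, ← h5, h1]

lemma bcLam_lamN' (J : Red.DS S M ⟶ G) (z : M →+ ℤ) : bcLam (lamN J z) f =
    lamN ((TorusAlgClosed.dsBcIso f M).inv.hom.hom ≫ (Over.pullback f).map J) z := by
  rw [lamN, lamN, bcLam_DSmap]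

lemma isMonHom_dsInv : IsMonHom (TorusAlgClosed.dsBcIso f M).inv.hom.hom :=
  (TorusAlgClosed.dsBcIso f M).inv.hom.isMonHom_hom

lemma isMonHom_bcJ (J : Red.DS S M ⟶ G) [IsMonHom J] :
    IsMonHom ((TorusAlgClosed.dsBcIso f M).inv.hom.hom ≫ (Over.pullback f).map J) := by
  have h1 := isMonHom_dsInv f (M := M)
  infer_instance

lemma comm_bc (J : Red.DS S M ⟶ G) [IsMonHom J] (x y : M →+ ℤ) :
    Comm (bcLam (lamN J y) f) (bcLam (lamN J x) f) := by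
  have hm := isMonHom_bcJ f J
  rw [bcLam_lamN', bcLam_lamN']
  exact comm_lamN _ y x

/-- The centralizer of a split torus centralises its cocharacters. -/
lemma ptZ_lamN (J : Red.DS S M ⟶ G) (x : M →+ ℤ) {Z : Over S} [GrpObj Z] {z : Z ⟶ G}
    (hz : Red.IsCentralizerOf J z) : PtZ (lamN J x) z := by
  rw [DynExist998.ptZ_iff_centralizes]
  intro X' y h
  have h1 := (hz.2.2 Z z).1 ⟨𝟙 _, Category.id_comp _⟩ X' y (h ≫ Red.DSmap S x)
  rw [Category.assoc] at h1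
  exact h1

end Gen

section Cent

variable {R : Type u} [CommRing R] [IsLocalRing R] {G T : Over (Spec (CommRingCat.of R))}
  [GrpObj G] [GrpObj T]

/-- The centralizer of a split torus exists. -/
lemma exists_centralizer [IsAffineHom G.hom] [LocallyOfFiniteType G.hom] (σ : T ⟶ G) [IsMonHom σ]
    (hT : Red.IsTorus T) (hs : ∃ r : ℕ, Red.IsSplitTorusWith (Fin r → ℤ) T) :
    ∃ (Z : Over (Spec (CommRingCat.of R))) (_ : GrpObj Z) (z : Z ⟶ G),
      Red.IsCentralizerOf σ z := by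
  obtain ⟨r, ⟨e⟩⟩ := hs
  obtain ⟨x, hx⟩ := exists_generic σ hT e
  obtain ⟨Z, _, z, hz, -⟩ := DynExist998.exists_isDynZ (lamN (e.inv.hom.hom ≫ σ) x)
  exact ⟨Z, inferInstance, z, hz.isMonHom, hz.mono, fun X g => (hz.iff_ptZ X g).trans (hx X g).symm⟩

end Cent

section Le

variable {R : Type u} [CommRing R] {G : Over (Spec (CommRingCat.of R))} [GrpObj G]
  {mu lam : Red.Gm (Spec (CommRingCat.of R)) ⟶ G} [IsMonHom mu] [IsMonHom lam]

/-- If `P(λ) ≤ P(μ)` and `λ`, `μ` commute then `P(Nμ + λ) ≤ P(λ)` for large `N`. -/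
lemma exists_cmb_le (hG : Red.IsReductive G) (hc : Comm mu lam) (h : Le lam mu) :
    ∃ N₀ : ℤ, ∀ N ≥ N₀, Le (cmb N 1 mu lam) lam := by
  have hGa : IsAffineHom G.hom := hG.1
  have hGs : Smooth G.hom := hG.2.1
  obtain ⟨N₀, -, h₁⟩ := exists_N hc
  refine ⟨N₀, fun N hN X g hg => ?_⟩
  obtain ⟨z, u, rfl, -, hz, hu⟩ := (h₁ N hN X g).1.1 hg
  exact hz.mul (PtU.ptP (RedFacts.ptU_of_le hG hc.symm h hu))

lemma exists_cmb_le' (hG : Red.IsReductive G) (hc : Comm mu lam) :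
    ∃ N₀ : ℤ, ∀ N ≥ N₀, Le (cmb N 1 mu lam) mu ∧
      ∀ (X : Over (Spec (CommRingCat.of R))) (g : X ⟶ G), PtZ mu g → PtZ lam g →
        PtZ (cmb N 1 mu lam) g := by
  have hGa : IsAffineHom G.hom := hG.1
  have hGs : Smooth G.hom := hG.2.1
  obtain ⟨N₀, -, h₁⟩ := exists_N hc
  refine ⟨N₀, fun N hN => ⟨fun X g hg => ?_, fun X g h1 h2 => (h₁ N hN X g).2.2.2 ⟨h1, h2⟩⟩⟩
  obtain ⟨z, u, rfl, hz, -, hu⟩ := (h₁ N hN X g).1.1 hg
  exact (PtZ.ptP hz).mul (PtU.ptP hu)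

end Le

section Hens

variable {O : Type u} [CommRing O] [HenselianLocalRing O]
  {G : Over (Spec (CommRingCat.of O))} [GrpObj G]
  {T₀ P₀ B₀ : Over (Spec (CommRingCat.of (IsLocalRing.ResidueField O)))} [GrpObj T₀] [GrpObj P₀]
  [GrpObj B₀]

/-- A parabolic subgroup of the closed fibre containing the centralizer of `T₀` is `P(λ)` for the
closed fibre `λ` of a cocharacter of the lifted torus. -/
theorem exists_x (hG : Red.IsReductive G) (σ₀ : T₀ ⟶ Red.bc (cl O) G) [IsMonHom σ₀] [Mono σ₀]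
    (hT₀ : MaxSpl σ₀) {M : Type} [AddCommGroup M] (J : Red.DS (Spec (CommRingCat.of O)) M ⟶ G)
    (e : Red.bc (cl O) (Red.DS (Spec (CommRingCat.of O)) M) ≅ T₀) (he : IsMonHom e.hom)
    (he' : e.hom ≫ σ₀ = (Over.pullback (cl O)).map J)
    (p₀ : P₀ ⟶ Red.bc (cl O) G) (hp₀ : Red.IsParabolic p₀)
    (hZ₀ : ∀ (Z₀ : Over (Spec (CommRingCat.of (IsLocalRing.ResidueField O)))) [GrpObj Z₀]
      (z₀ : Z₀ ⟶ Red.bc (cl O) G), Red.IsCentralizerOf σ₀ z₀ → ∃ zP₀ : Z₀ ⟶ P₀, zP₀ ≫ p₀ = z₀) :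
    ∃ x : M →+ ℤ, IsDynP (bcLam (lamN J x) (cl O)) p₀ := by
  have hG' := RedBcAny636.isReductive_bc (cl O) hG
  have hGa' : IsAffineHom (Red.bc (cl O) G).hom := hG'.1
  have hGs' : Smooth (Red.bc (cl O) G).hom := hG'.2.1
  obtain ⟨Z₀, _, z₀, hz₀⟩ := exists_centralizer σ₀ hT₀.1 hT₀.2.1
  obtain ⟨zP₀, hzP₀⟩ := hZ₀ Z₀ z₀ hz₀
  obtain ⟨E, hE⟩ := exists_grpIso (cl O) e he
  obtain ⟨x, hx⟩ := exists_lamN hG' σ₀ hT₀ z₀ hz₀ p₀ hp₀ zP₀ hzP₀ E
  refine ⟨x, ?_⟩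
  rw [bcLam_lamN (cl O) J σ₀ e he' x, ← hE]
  exact hx

end Hens

section Step

variable {R R' : Type u} [CommRing R] [CommRing R']
  (f : Spec (CommRingCat.of R') ⟶ Spec (CommRingCat.of R))
  {G : Over (Spec (CommRingCat.of R))} [GrpObj G] {M : Type} [AddCommGroup M]
  (J : Red.DS (Spec (CommRingCat.of R)) M ⟶ G) [IsMonHom J]

/-- Refining cocharacters of a split torus. -/
theorem exists_refine (hG : Red.IsReductive G) (x y : M →+ ℤ)
    (hc : Comm (bcLam (lamN J y) f) (bcLam (lamN J x) f))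
    (hmin : IsMin (bcLam (lamN J x) f)) (hle : Le (bcLam (lamN J x) f) (bcLam (lamN J y) f)) :
    ∃ kap : Red.Gm (Spec (CommRingCat.of R)) ⟶ G, IsMonHom kap ∧ Le kap (lamN J y) ∧
      (∀ (X : Over (Spec (CommRingCat.of R))) (g : X ⟶ G),
        PtZ (lamN J y) g → PtZ (lamN J x) g → PtZ kap g) ∧
      Eqv (bcLam kap f) (bcLam (lamN J x) f) := by
  have hG' := RedBcAny636.isReductive_bc f hG
  obtain ⟨N₁, h₁⟩ := exists_cmb_le' hG (comm_lamN J y x)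
  obtain ⟨N₂, h₂⟩ := exists_cmb_le hG' hc hle
  have hm : IsMonHom (cmb (max N₁ N₂) 1 (lamN J y) (lamN J x)) := isMonHom_cmb (comm_lamN J y x) _ _
  have h3 := h₂ _ (le_max_right N₁ N₂)
  rw [← Bc.bcLam_cmb] at h3
  exact ⟨cmb (max N₁ N₂) 1 (lamN J y) (lamN J x), hm, (h₁ _ (le_max_left _ _)).1,
    (h₁ _ (le_max_left _ _)).2, h3, hmin _ inferInstance h3⟩

variable {J}

/-- `P(α) ≤ P(β)` for a factorisation of the subgroups. -/
lemma le_of_factor {α β : Red.Gm (Spec (CommRingCat.of R)) ⟶ G} {P Q : Over (Spec (CommRingCat.of R))}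
    [GrpObj P] [GrpObj Q] {p : P ⟶ G} {q : Q ⟶ G} (hp : IsDynP α p) (hq : IsDynP β q) (c : P ⟶ Q)
    (hc : c ≫ q = p) : Le α β := fun X g hg => by
  obtain ⟨x, rfl⟩ := (hp.iff_ptP X g).2 hg
  exact (hq.iff_ptP _ _).1 ⟨x ≫ c, by rw [Category.assoc, hc]⟩

lemma exists_iso_of_eqv {α β : Red.Gm (Spec (CommRingCat.of R)) ⟶ G}
    {P Q : Over (Spec (CommRingCat.of R))}
    [GrpObj P] [GrpObj Q] {p : P ⟶ G} {q : Q ⟶ G} (hp : IsDynP α p) (hq : IsDynP β q)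
    (h : Eqv α β) : ∃ e : P ≅ Q, e.hom ≫ q = p := by
  have hq' : IsDynP α q := ⟨hq.isMonHom, hq.mono, fun X g => (hq.iff_ptP X g).trans
    ⟨h.2 X g, h.1 X g⟩⟩
  exact DynTools.exists_iso_of_isDynP _ hp hq'

end Step

end Groth.Agent.K547.Triples
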