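import Groth.Agent.Par.K547.QtTact

/-!
# The Lie algebra of `P_T`, `T` a submonoid of the character group

`J : D(M) ⟶ G` over an affine base; for a submonoid `T` of `M` the elements of the Lie algebra of `G` satisfying
the condition `PtT J T` are the sums of elements of the weight spaces of the elements of `T`.
-/

set_option autoImplicit false
set_option linter.unusedSectionVars false
universe u

open CategoryTheory MonoidalCategory CartesianMonoidalCategory MonObj GrpObj AlgebraicGeometry Limits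

namespace Groth.Agent.K547.WtLie

open Groth.Agent.Sga3B Cell PinMod DSPts GaPts K929.LieDict K929.LieSplit K929.Act K929.Act.TAct K929.ChartUni
  K929.ActSub
open Groth.Agent.Sga3B.Parab Groth.Agent.Sga3B.Parab.OrbM156 RootCoact
open Groth.Agent.K547.QtTact

section ptT

variable {S : Scheme.{u}} {G : Over S} [GrpObj G] {M : Type} [AddCommGroup M] {J : Red.DS S M ⟶ G}
  {T : Submonoid (Multiplicative M)} {X : Over S}

lemma qt_of_eq {C : Type u} [CommRing C] {c : Spec (CommRingCat.of C) ⟶ S} {g h : aff C c ⟶ G}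
    (e : g = h) (H : QT J C c T g) : QT J C c T h := e ▸ H

lemma ptT_one : PtT J T (1 : X ⟶ G) := by
  intro C _ c y
  refine qt_of_eq ?_ (qt_one J C c T)
  exact (MonObj.comp_one y).symm

lemma ptT_mul {g h : X ⟶ G} (hg : PtT J T g) (hh : PtT J T h) : PtT J T (g * h) := by
  intro C _ c y
  refine qt_of_eq ?_ (QT.mul J (hg C c y) (hh C c y))
  exact (MonObj.comp_mul y g h).symm

lemma ptT_inv {g : X ⟶ G} (hg : PtT J T g) : PtT J T g⁻¹ := by
  intro C _ c y
  refine qt_of_eq ?_ (QT.inv J (hg C c y))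
  exact (GrpObj.comp_inv y g).symm

end ptT

section act

variable {R A : Type u} [CommRing R] [CommRing A] [Algebra R A] [PtGrp R A] {M : Type} [AddCommGroup M]
  {E : TAct R A M} (hE : E.IsAut)
variable {B : Type u} [CommRing B] [Algebra R B]

include hE

/-- Only finitely many weights occur in the infinitesimal points. -/
theorem exists_finset [Algebra.FiniteType R A] : ∃ F : Finset M, ∀ (B : Type u) [CommRing B] [Algebra R B]
    (g : Pt R A (DualNumber B)), g ∈ infP R A B → ∀ m ∉ F, ∀ f ∈ gr E.coact m, (g.hom f).snd = 0 := by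
  classical
  obtain ⟨S, hS⟩ := ‹Algebra.FiniteType R A›.out
  refine ⟨S.biUnion (supp E.coact), fun B _ _ g hg m hm => ?_⟩
  rw [← hE.comp_eq_one_iff hg]
  have h1 : (hE.comp m hg).hom = (1 : Pt R A (DualNumber B)).hom := by
    refine AlgHom.ext_of_adjoin_eq_top hS fun s hs => ?_
    apply dual_ext
    · rw [hE.fst_comp, fst_eq hg]
      exact (fst_eq (one_mem _) s).symm
    · rw [hE.snd_comp, snd_one_hom]
      have h2 : pr E.coact m s = 0 := by
        by_contra h
        exact hm (Finset.mem_biUnion.2 ⟨s, hs, (mem_supp _).2 h⟩)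
      rw [h2, _root_.map_zero]
      rfl
  exact h1

/-- An infinitesimal point is a product of its components. -/
theorem mem_of_comp (F : Finset M) : ∀ {g : Pt R A (DualNumber B)} (hg : g ∈ infP R A B)
    (_ : ∀ m ∉ F, ∀ f ∈ gr E.coact m, (g.hom f).snd = 0) (H : Subgroup (Pt R A (DualNumber B)))
    (_ : ∀ m ∈ F, hE.comp m hg ∈ H), g ∈ H := by
  classical
  induction F using Finset.induction_on with
  | empty =>
    intro g hg h H _
    have : g = 1 := hE.eq_one_of_comp hg fun m =>
      (hE.comp_eq_one_iff hg).2 fun f hf => h m (Finset.notMem_empty m) f hf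
    rw [this]
    exact H.one_mem
  | insert a F ha ih =>
    intro g hg h H hH
    have hca := hE.comp_mem a hg
    obtain ⟨g', hg'⟩ : ∃ g', g' = g * (hE.comp a hg)⁻¹ := ⟨_, rfl⟩
    have hg'm : g' ∈ infP R A B := by
      rw [hg']
      exact mul_mem hg (inv_mem hca)
    have hgg : g = g' * hE.comp a hg := by rw [hg', inv_mul_cancel_right]
    have hs : ∀ b, (g'.hom b).snd = (g.hom b).snd - (g.hom (pr E.coact a b)).snd := by
      intro b
      have h1 := congrArg (fun k : Pt R A (DualNumber B) => (k.hom b).snd) hgg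
      change (g.hom b).snd = ((g' * hE.comp a hg).hom b).snd at h1
      rw [snd_mul hg'm hca, hE.snd_comp] at h1
      rw [h1, add_sub_cancel_right]
    have hmem : g' ∈ H := by
      refine ih hg'm ?_ H ?_
      · intro m hm f hf
        rw [hs]
        by_cases hma : m = a
        · subst hma
          rw [pr_of_mem_same _ hf, sub_self]
        · rw [pr_of_mem_ne _ hf hma, _root_.map_zero, h m (by
            rw [Finset.mem_insert, not_or]
            exact ⟨hma, hm⟩) f hf]
          simp
      · intro m hm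
        have hma : m ≠ a := fun h => ha (h ▸ hm)
        have : hE.comp m hg'm = hE.comp m hg := by
          apply infP_ext (hE.comp_mem m hg'm) (hE.comp_mem m hg)
          intro b
          rw [hE.snd_comp, hE.snd_comp, hs, pr_of_mem_ne _ (pr_mem_gr _ m b) hma, _root_.map_zero]
          simp
        rw [this]
        exact hH m (Finset.mem_insert_of_mem hm)
    rw [hgg]
    exact mul_mem hmem (hH a (Finset.mem_insert_self a F))

end act

section wt

variable {R : Type u} [CommRing R] {G : Over (Spec (CommRingCat.of R))} [GrpObj G]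
  (c : Chart G (𝟙 (Spec (CommRingCat.of R)))) {M : Type} [AddCommGroup M]
  (J : Red.DS (Spec (CommRingCat.of R)) M ⟶ G) [IsMonHom J]
variable {B C : Type u} [CommRing B] [Algebra R B] [CommRing C] [Algebra R C]

/-- the point of `D(M)` with given coordinates -/
noncomputable def dPt (t : TPt M C) : VecGrp.pt R C ⟶ Red.DS (Spec (CommRingCat.of R)) M :=
  (castP (str_eq R C)).inv ≫ dsEquiv (tB (𝟙 _) C) M (chΓ (𝟙 _) t)

lemma castP_dPt (t : TPt M C) : (castP (str_eq R C)).hom ≫ dPt t =
    dsEquiv (tB (𝟙 _) C) M (chΓ (𝟙 _) t) := by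
  rw [dPt, Iso.hom_inv_id_assoc]

lemma exists_dPt (t : VecGrp.pt R C ⟶ Red.DS (Spec (CommRingCat.of R)) M) :
    ∃ t' : TPt M C, t = dPt t' := by
  obtain ⟨t', ht'⟩ := exists_chΓ (𝟙 _) ((castP (str_eq R C)).hom ≫ t)
  refine ⟨t', ?_⟩
  rw [dPt, ← ht', Iso.inv_hom_id_assoc]

lemma pts_tiPt_dPt (t : TPt M C) : c.pts C (tiPt c J C t) =
    (castP (str_eq R C)).hom ≫ dPt t ≫ J := by
  rw [pts_tiPt, ← castP_dPt, Category.assoc]

/-- the value of a character -/
lemma chiVal_dPt (m : M) (t : TPt M C) :
    VecGrp.chiVal (Red.chi (Spec (CommRingCat.of R)) m) (dPt t) = TPt.ch m t := by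
  unfold VecGrp.chiVal
  rw [dPt, Category.assoc, Groth.Agent.Sga3.H811.Pts.gmFn_comp, gmFn_chi, dsChar_dsEquiv, chΓ_apply]
  have h2 : (castP (str_eq R C)).inv.left = 𝟙 _ := rfl
  rw [h2, Scheme.Hom.id_appTop]
  change ((Scheme.ΓSpecIso (CommRingCat.of C)).inv ≫ (Scheme.ΓSpecIso (CommRingCat.of C)).hom) _ = _
  rw [Iso.inv_hom_id]
  rfl

/-- **Weight spaces in a chart.** -/
theorem mem_weightSpOf_iff (m : M) (x : LieS.LieR G B) :
    x ∈ LieWt.weightSpOf J (Red.chi (Spec (CommRingCat.of R)) m) B ↔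
      (actG c J).IsWt m (infR c B x) := by
  unfold LieWt.weightSpOf TAct.IsWt
  rw [LieWt.mem_weightSp_iff]
  have key : ∀ (C : Type u) [CommRing C] [Algebra R C] (φ : B →ₐ[R] C) (t : TPt M C),
      ((actG c J).act (TPt.map (tinl R C) t) (Pt.map (dmap φ) (infR c B x)) =
        Pt.map (dscale R (TPt.ch m t)) (Pt.map (dmap φ) (infR c B x))) ↔
      LieS.Ad G C _ ((VecGrp.ptIso φ).hom ≫ dPt t ≫ J) (LieS.pull G _ φ.toRingHom x) =
        (TPt.ch m t) • LieS.pull G _ φ.toRingHom x := by
    intro C _ _ φ t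
    rw [weight_cond c J x φ (dPt t) _ _ (pts_tiPt_dPt c J t), actG_act, ← tiPt_nat]
  constructor
  · intro h C _ _ φ t
    have h1 := h C φ (dPt t)
    rw [chiVal_dPt] at h1
    exact (key C φ t).2 h1
  · intro h C _ _ φ t
    obtain ⟨t', rfl⟩ := exists_dPt t
    rw [chiVal_dPt]
    exact (key C φ t').1 (h C φ t')

/-- The condition `PtT` for an element of the Lie algebra. -/
theorem ptT_iff [IsAffineHom G.hom] (T : Submonoid (Multiplicative M)) (x : LieS.LieR G B) :
    PtT J T x.1 ↔ ∀ m : M, Multiplicative.ofAdd m ∉ T →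
      ∀ a ∈ gr (actG c J).coact m, ((infR c B x).hom a).snd = 0 := by
  have h1 : PtT J T x.1 ↔ PtT J T (c.pts (DualNumber B) (infR c B x)) := by
    have h2 : c.pts (DualNumber B) (infR c B x) = (castD (str_eq R B)).hom ≫ x.1 := pts_inf c _ x
    rw [h2]
    constructor
    · intro h
      exact h.comp _
    · intro h
      have := h.comp (castD (str_eq R B)).inv
      rwa [Iso.inv_hom_id_assoc] at this
  have hA : (actG c J).IsAut := isAut_actG c J
  have h3 : PtT J T (c.pts (DualNumber B) (infR c B x)) ↔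
      QT J (DualNumber B) _ T (c.pts (DualNumber B) (infR c B x)) := (idealCond J T).ptQ_iff _
  rw [h1, h3, qt_iff]
  refine forall_congr' fun m => forall_congr' fun hm => forall_congr' fun a => forall_congr' fun ha => ?_
  have hm0 : m ≠ 0 := by
    rintro rfl
    exact hm T.one_mem
  constructor
  · intro h
    rw [h]
    rfl
  · intro h
    apply dual_ext
    · exact hA.fst_eq_zero (infR_mem c x) hm0 ha
    · exact h

variable (B) in
/-- The elements of the Lie algebra of `G` satisfying `PtT J T`. -/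
noncomputable def ptSub (T : Submonoid (Multiplicative M)) : Subgroup (LieS.LieR G B) where
  carrier := {x | PtT J T x.1}
  mul_mem' ha hb := ptT_mul ha hb
  one_mem' := ptT_one
  inv_mem' ha := ptT_inv ha

lemma mem_ptSub {T : Submonoid (Multiplicative M)} {x : LieS.LieR G B} :
    x ∈ ptSub J B T ↔ PtT J T x.1 := Iff.rfl

/-- A weight space is in `P_T`. -/
lemma weightSpOf_le_ptSub [IsAffineHom G.hom] (T : Submonoid (Multiplicative M)) {m : M}
    (hm : Multiplicative.ofAdd m ∈ T) :
    LieWt.weightSpOf J (Red.chi (Spec (CommRingCat.of R)) m) B ≤ ptSub J B T := by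
  obtain ⟨c⟩ := exists_chart G (𝟙 (Spec (CommRingCat.of R)))
  intro x hx
  rw [mem_ptSub, ptT_iff c]
  intro n hn a ha
  rw [mem_weightSpOf_iff c] at hx
  have hA : (actG c J).IsAut := isAut_actG c J
  refine (hA.isWt_iff (infR_mem c x) m).1 hx n ?_ a ha
  rintro rfl
  exact hn hm

/-- **The Lie algebra of `P_T`.** -/
theorem ptSub_eq [IsAffineHom G.hom] [Algebra.FiniteType R c.A] (T : Submonoid (Multiplicative M)) :
    ptSub J B T = ⨆ m ∈ {m : M | Multiplicative.ofAdd m ∈ T},
      LieWt.weightSpOf J (Red.chi (Spec (CommRingCat.of R)) m) B := by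
  refine le_antisymm (fun x h => ?_) (iSup₂_le fun m hm => weightSpOf_le_ptSub J T hm)
  rw [mem_ptSub, ptT_iff c] at h
  have hA : (actG c J).IsAut := isAut_actG c J
  obtain ⟨F, hF⟩ := exists_finset hA
  obtain ⟨K, hK⟩ : ∃ K : Subgroup (LieS.LieR G B), K = ⨆ m ∈ {m : M | Multiplicative.ofAdd m ∈ T},
    LieWt.weightSpOf J (Red.chi (Spec (CommRingCat.of R)) m) B := ⟨_, rfl⟩
  rw [← hK]
  have hle : ∀ m, Multiplicative.ofAdd m ∈ T →
      LieWt.weightSpOf J (Red.chi (Spec (CommRingCat.of R)) m) B ≤ K := by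
    intro m hm
    rw [hK]
    exact le_iSup₂_of_le (f := fun m (_ : m ∈ {m : M | Multiplicative.ofAdd m ∈ T}) =>
      LieWt.weightSpOf J (Red.chi (Spec (CommRingCat.of R)) m) B) m hm le_rfl
  have h1 : infR c B x ∈ K.map (infR c B) := by
    refine mem_of_comp hA F (infR_mem c x) (hF B _ (infR_mem c x)) _ fun m _ => ?_
    by_cases hm : Multiplicative.ofAdd m ∈ T
    · obtain ⟨y, hy⟩ := exists_infR c (hA.comp_mem m (infR_mem c x))
      refine ⟨y, hle m hm ?_, hy⟩
      rw [mem_weightSpOf_iff c, hy]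
      exact hA.isWt_comp m (infR_mem c x)
    · rw [(hA.comp_eq_one_iff (infR_mem c x)).2 (h m hm)]
      exact one_mem _
  obtain ⟨y, hy, hyx⟩ := h1
  rw [← infR_injective c hyx]
  exact hy

end wt

end Groth.Agent.K547.WtLie
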